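import Cfsg.Agent.H443.PC.TwoMain_m3
import Cfsg.Agent.QTUnique.PcCard_m3
import Cfsg.Agent.GH.Q2.Sq_m3
import Cfsg.Agent.H555.PiBS.Elem
import Cfsg.Agent.SporRec.TwoSp6.Sp
import Cfsg.Agent.KFacts.CoTwo.QuotInst
import Cfsg.Agent.H502.IF.BKey
import Cfsg.Agent.KFacts.Baby.RowB_m3
import Cfsg.Agent.Schreier.CoTwoStab
import Cfsg.Agent.KFacts.MonsterE
import Cfsg.Agent.MonsterU.Uncond
import Cfsg.Agent.H850.MonSub
import Cfsg.Agent.MonsterU.CoFrameF
import Cfsg.Agent.MonsterU.CoFrameL2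
import Cfsg.Agent.KFacts.Co1.InCo1
import Cfsg.Agent.KFacts.Co1.CaseM_m3
import Cfsg.Agent.S1572
import Cfsg.Agent.H305.SepJ1
import Cfsg.Agent.S0496
import Cfsg.Agent.TypeM.FactsLy
import Cfsg.Agent.FastGrp
import Cfsg.Agent.Prune
set_option linter.all false

-- part: H861/PiS/PcGood
section
set_option linter.all false
open scoped Cfsg.Agent.FastGrp

/-!
# S3876: `Good` from a polycyclic Sylow 2-subgroup (helper861)
-/

set_option autoImplicit false

namespace Cfsg.Agent.H861.PiS

open Cfsg Subgroup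
open Cfsg.Agent.H841.PiBS
open Cfsg.Agent.GH.Pc

universe u v

/-- the subgroup containing all `π`-subgroups above the Sylow 2-subgroup generated by `x` -/
theorem exists_H {G : Type u} [Group G] [Finite G] {n : ℕ} {P : Pres n} {x : Fin n → G} (hP : P.Ok) (hx : Sat P x)
    (hn : ∀ e : Fin n → Bool, nf x e = 1 → e = fun _ => false) (hG : ¬ 2 ^ (n + 1) ∣ Nat.card G) {π : Set ℕ}
    (I : G → Prop) (hI : ∀ g w, I w → I (g * w * g⁻¹)) {z : G} (hIz : I z) (hz : z ∈ closure (Set.range x))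
    (hcz : ∀ i, x i * z = z * x i)
    (hcen : ∀ e : Fin n → Bool, (∀ i, x i * nf x e = nf x e * x i) → I (nf x e) → nf x e = z)
    (hC : IsPiSubgroup π (centralizer ({z} : Set G))) (hd : DT π G) :
    ∃ H : Subgroup G, OddPi π H ∧ ∀ U : Subgroup G, IsPiSubgroup π U → (∀ i, x i ∈ U) → U ≤ H := by
  obtain ⟨T, hT⟩ := Cfsg.Agent.QTUnique.PcCard.exists_sylow_eq hP hx hn hG
  have hxT : ∀ i, x i ∈ (T : Subgroup G) := fun i => by rw [hT]; exact subset_closure ⟨i, rfl⟩
  have hzT : z ∈ (T : Subgroup G) := by rw [hT]; exact hz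
  have hTz : ∀ t ∈ (T : Subgroup G), t * z = z * t := by
    intro t ht
    have h1 : closure (Set.range x) ≤ centralizer ({z} : Set G) := by
      rw [closure_le]
      rintro _ ⟨i, rfl⟩
      exact mem_centralizer_singleton_iff.2 (hcz i)
    rw [hT] at ht
    exact mem_centralizer_singleton_iff.1 (h1 ht)
  have hN : normalizer ((T : Subgroup G) : Set G) ≤ centralizer ({z} : Set G) := by
    intro g hg
    rw [mem_centralizer_singleton_iff]
    have hgi := inv_mem hg
    have h1 : g * z * g⁻¹ ∈ (T : Subgroup G) := (mem_normalizer_iff.1 hg z).1 hzT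
    have h2 : ∀ i, x i * (g * z * g⁻¹) = g * z * g⁻¹ * x i := by
      intro i
      have h3 : g⁻¹ * x i * g ∈ (T : Subgroup G) := by
        have := (mem_normalizer_iff.1 hgi (x i)).1 (hxT i)
        rwa [inv_inv] at this
      have h4 := hTz _ h3
      calc x i * (g * z * g⁻¹) = g * ((g⁻¹ * x i * g) * z) * g⁻¹ := by group
        _ = g * (z * (g⁻¹ * x i * g)) * g⁻¹ := by rw [h4]
        _ = g * z * g⁻¹ * x i := by group
    have h1' := h1
    rw [hT] at h1'
    obtain ⟨e, he⟩ := exists_nf hP hx h1'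
    have h5 := hcen e (by rw [← he]; exact h2) (by rw [← he]; exact hI g z hIz)
    rw [← he] at h5
    calc g * z = g * z * g⁻¹ * g := by group
      _ = z * g := by rw [h5]
  have hNpi : IsPiSubgroup π (normalizer ((T : Subgroup G) : Set G)) := isPi_of_le hC hN
  obtain ⟨H, hH, hU⟩ := hd.exists_ge T hNpi
  refine ⟨H, hH, fun U hUp hUx => hU U hUp ?_⟩
  rw [hT, closure_le]
  rintro _ ⟨i, rfl⟩
  exact hUx i

/-- a subgroup without elements of prime order `≥ 5` -/
theorem isPi_of_five {G : Type u} [Group G] [Finite G] {π : Set ℕ} (h2 : 2 ∈ π) (h3 : 3 ∈ π) {U : Subgroup G}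
    (h : ∀ p : ℕ, p.Prime → 5 ≤ p → ∀ g ∈ U, g ^ p = 1 → g = 1) : IsPiSubgroup π U := by
  intro p hp hd
  have hpf : Fact p.Prime := ⟨hp⟩
  by_cases hp2 : p = 2
  · rwa [hp2]
  by_cases hp3 : p = 3
  · rwa [hp3]
  have hp4 : p ≠ 4 := by
    rintro rfl
    exact absurd hp (by decide)
  have hp5 : 5 ≤ p := by
    have := hp.two_le
    omega
  exfalso
  obtain ⟨g, hg⟩ := exists_prime_orderOf_dvd_card' p hd
  have h1 : (g : G) ^ p = 1 := by
    rw [← hg]
    exact congrArg Subtype.val (pow_orderOf_eq_one g)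
  have h4 := h p hp hp5 g g.2 h1
  have h5 : g = 1 := Subtype.ext h4
  rw [h5, orderOf_one] at hg
  exact hp.one_lt.ne hg

/-- an element of prime order gives a prime of `π` -/
theorem mem_pi_of {G : Type u} [Group G] [Finite G] {π : Set ℕ} {H : Subgroup G} (hH : IsPiSubgroup π H) {p : ℕ}
    (hp : p.Prime) {g : G} (hg : g ∈ H) (hgp : g ^ p = 1) (hg1 : g ≠ 1) : p ∈ π := by
  have hpf : Fact p.Prime := ⟨hp⟩
  have h1 : orderOf g = p := orderOf_eq_prime hgp hg1
  have h2 : orderOf (⟨g, hg⟩ : H) ∣ Nat.card H := orderOf_dvd_natCard _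
  rw [orderOf_mk, h1] at h2
  exact hH p hp h2

/-- `g` of prime order `p` fixes every point of an invariant set with less than `p` elements -/
theorem fix_of_small {X : Type*} (g : Equiv.Perm X) {p : ℕ} (hp : p.Prime) (hg : g ^ p = 1) (B : Finset X)
    (hB : B.card < p) (hgB : ∀ x ∈ B, g x ∈ B) : ∀ x ∈ B, g x = x := by
  classical
  intro x hx
  by_contra hne
  have hinj : Set.InjOn (fun k : ℕ => (g ^ k) x) (Finset.range p : Set ℕ) := by
    have key : ∀ i j : ℕ, i < j → j < p → (g ^ i) x = (g ^ j) x → False := by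
      intro i j hij hj he
      have h1 : (g ^ (j - i)) x = x := by
        have h2 : (g ^ i) ((g ^ (j - i)) x) = (g ^ i) x := by
          rw [← Equiv.Perm.mul_apply, ← pow_add, Nat.add_sub_cancel' hij.le, he]
        exact (g ^ i).injective h2
      have hcop : Nat.Coprime (j - i) p := by
        refine (Nat.coprime_comm.1 ((Nat.Prime.coprime_iff_not_dvd hp).2 fun hd => ?_))
        have := Nat.le_of_dvd (by omega) hd
        omega
      have h3 : Function.IsPeriodicPt g (j - i) x := by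
        show g^[j - i] x = x
        rw [Equiv.Perm.iterate_eq_pow]; exact h1
      have h4 : Function.IsPeriodicPt g p x := by
        show g^[p] x = x
        rw [Equiv.Perm.iterate_eq_pow, hg, Equiv.Perm.one_apply]
      have h5 := h3.gcd h4
      rw [hcop] at h5
      exact hne h5
    intro i hi j hj he
    rw [Finset.coe_range, Set.mem_Iio] at hi hj
    rcases lt_trichotomy i j with h | h | h
    · exact (key i j h hj he).elim
    · exact h
    · exact (key j i h hi he.symm).elim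
  have hmaps : Set.MapsTo (fun k : ℕ => (g ^ k) x) (Finset.range p : Set ℕ) (B : Set X) := by
    intro k hk
    show (g ^ k) x ∈ B
    clear hinj hne hk
    induction k with
    | zero => simpa using hx
    | succ k ih => rw [pow_succ', Equiv.Perm.mul_apply]; exact hgB _ ih
  have := Finset.card_le_card_of_injOn _ hmaps hinj
  rw [Finset.card_range] at this
  omega

/-- `g` of prime order `p ≥ 5` is trivial if it permutes a family of at most four sets of at most four points -/
theorem eq_one_of_blocks {X : Type*} [DecidableEq X] [Fintype X] (g : Equiv.Perm X) {p : ℕ} (hp : p.Prime) (h5 : 5 ≤ p)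
    (hg : g ^ p = 1) (F : Finset (Finset X)) (hF : F.card < 5) (hFB : ∀ B ∈ F, B.card < 5)
    (hgF : ∀ B ∈ F, B.map g.toEmbedding ∈ F) (hc : (Finset.univ \ F.biUnion id).card < 5) : g = 1 := by
  have hpow : ∀ k : ℕ, ∀ B : Finset X, (Equiv.finsetCongr g ^ k : Equiv.Perm (Finset X)) B =
      B.map (g ^ k : Equiv.Perm X).toEmbedding := by
    intro k
    induction k with
    | zero =>
      intro B
      rw [pow_zero, pow_zero, Equiv.Perm.one_apply]
      ext x
      simp
      exact Iff.rfl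
    | succ k ih =>
      intro B
      rw [pow_succ', Equiv.Perm.mul_apply, ih, Equiv.finsetCongr_apply, Finset.map_map, pow_succ']
      rfl
  have h1 : (Equiv.finsetCongr g ^ p : Equiv.Perm (Finset X)) = 1 := by
    ext B : 1
    rw [hpow, hg, Equiv.Perm.one_apply]
    ext x
    simp
    exact Iff.rfl
  have h2 := fix_of_small (Equiv.finsetCongr g) hp h1 F (by omega) (fun B hB => by
    rw [Equiv.finsetCongr_apply]; exact hgF B hB)
  have h3 : ∀ B ∈ F, ∀ x ∈ B, g x = x := by
    intro B hB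
    refine fix_of_small g hp hg B (by have := hFB B hB; omega) fun x hx => ?_
    have h4 := h2 B hB
    rw [Equiv.finsetCongr_apply] at h4
    rw [← h4]
    exact Finset.mem_map_of_mem _ hx
  have h4 : ∀ x ∈ Finset.univ \ F.biUnion id, g x = x := by
    refine fix_of_small g hp hg _ (by omega) fun x hx => ?_
    rw [Finset.mem_sdiff] at hx ⊢
    refine ⟨Finset.mem_univ _, fun hgx => hx.2 ?_⟩
    rw [Finset.mem_biUnion] at hgx ⊢
    obtain ⟨B, hB, hgB⟩ := hgx
    have h5 := h3 B hB (g x) hgB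
    have h6 := g.injective h5
    exact ⟨B, hB, by rw [h6] at hgB; exact hgB⟩
  ext x : 1
  rw [Equiv.Perm.one_apply]
  by_cases hx : x ∈ F.biUnion id
  · rw [Finset.mem_biUnion] at hx
    obtain ⟨B, hB, hxB⟩ := hx
    exact h3 B hB x hxB
  · exact h4 x (Finset.mem_sdiff.2 ⟨Finset.mem_univ _, hx⟩)

end Cfsg.Agent.H861.PiS
end

-- part: H861/PiS/Tools2
section
prune_inst 0x7f00000000000000000000000000000000000000000000000000000000000000000000000000000000000000000000000000000000000000000000000000000000000000000000000000000000000000003fffffffffffffffffffffffffffbeffbdffffffff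
set_option linter.all false
open scoped Cfsg.Agent.FastGrp

-- part: H861/PiS/Pair
section
/-!
# S3876: the invariant four-group in a large extraspecial subgroup (helper861)

The number of pairs `{v, v z}` of noncentral involutions of `Q` is odd, so a Sylow 2-subgroup fixes one.
-/

set_option autoImplicit false

namespace Cfsg.Agent.H861.PiS

open Cfsg Subgroup
open Cfsg.Agent.H841.PiBS
open Cfsg.Agent.Co2Type.Quad (Large)

universe u v

/-- a set saturated by a subgroup of order 4 -/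
theorem four_dvd_of_sat {G : Type u} [Group G] [Finite G] (E : Subgroup G) (hE : Nat.card E = 4) (A : Set G)
    (hA : ∀ a ∈ A, ∀ e ∈ E, a * e ∈ A) : 4 ∣ A.ncard := by
  have h1 : (QuotientGroup.mk ⁻¹' (QuotientGroup.mk '' A : Set (G ⧸ E)) : Set G) = A := by
    ext x
    constructor
    · rintro ⟨a, ha, he⟩
      have h2 : a⁻¹ * x ∈ E := QuotientGroup.eq.1 he
      have h3 := hA a ha _ h2
      rwa [mul_inv_cancel_left] at h3
    · intro hx
      exact ⟨x, hx, rfl⟩
  have h2 := Nat.card_congr (QuotientGroup.preimageMkEquivSubgroupProdSet E (QuotientGroup.mk '' A))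
  rw [Nat.card_prod, hE, h1] at h2
  exact ⟨_, h2⟩

variable {G : Type u} [Group G] {Q : Subgroup G} {z : G}

/-- the number of `x ∈ Q` with `x² = 1` is divisible by 4 -/
theorem four_dvd_inv [Finite G] (h : Large Q z) (h16 : 16 ∣ Nat.card Q) {v : G} (hv : v ∈ Q) (hv2 : v * v = 1)
    (hv1 : v ≠ 1) (hvz : v ≠ z) : 4 ∣ {x : G | x ∈ Q ∧ x * x = 1}.ncard := by
  classical
  have hzz := h.z_sq
  have hvz' : v * z = z * v := h.comm_z v hv
  obtain ⟨q, hq, hqv⟩ : ∃ q ∈ Q, v * q ≠ q * v := by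
    by_contra hne
    push Not at hne
    rcases h.cent v hv hne with h1 | h1
    · exact hv1 h1
    · exact hvz h1
  have hvq : v * q = q * v * z := (h.comm v hv q hq).resolve_left hqv
  -- the two parts
  have hY1 : 4 ∣ {x : G | x ∈ Q ∧ x * x = 1 ∧ x * v = v * x}.ncard := by
    have hvzne : v * z ≠ 1 := fun h1 => hvz (by
      calc v = v * z * z := by rw [mul_assoc, hzz, mul_one]
        _ = z := by rw [h1, one_mul])
    let E : Subgroup G :=
      { carrier := {x | x = 1 ∨ x = z ∨ x = v ∨ x = v * z}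
        one_mem' := Or.inl rfl
        mul_mem' := by
          have e1 : z * v = v * z := hvz'.symm
          have e2 : z * (v * z) = v := by rw [← mul_assoc, e1, mul_assoc, hzz, mul_one]
          have e3 : v * z * z = v := by rw [mul_assoc, hzz, mul_one]
          have e4 : v * z * v = z := by rw [mul_assoc, e1, ← mul_assoc, hv2, one_mul]
          have e5 : v * (v * z) = z := by rw [← mul_assoc, hv2, one_mul]
          have e6 : v * z * (v * z) = 1 := by rw [← mul_assoc, e4, hzz]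
          rintro a b (rfl | rfl | rfl | rfl) (rfl | rfl | rfl | rfl) <;>
            simp only [one_mul, mul_one, hzz, hv2, e1, e2, e3, e4, e5, e6, Set.mem_ofPred_eq, true_or, or_true]
        inv_mem' := by
          have e6 : v * z * (v * z) = 1 := by
            rw [← mul_assoc, mul_assoc v z v, ← hvz', ← mul_assoc, hv2, one_mul, hzz]
          rintro a (rfl | rfl | rfl | rfl)
          · exact Or.inl inv_one
          · exact Or.inr (Or.inl (inv_eq_of_mul_eq_one_right hzz))
          · exact Or.inr (Or.inr (Or.inl (inv_eq_of_mul_eq_one_right hv2)))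
          · exact Or.inr (Or.inr (Or.inr (inv_eq_of_mul_eq_one_right e6))) }
    have hEc : Nat.card E = 4 := by
      have h1 : (E : Set G) = (({1, z, v, v * z} : Finset G) : Set G) := by
        ext x
        simp only [Finset.coe_insert, Finset.coe_singleton, Set.mem_insert_iff, Set.mem_singleton_iff]
        exact Iff.rfl
      have h2 : Nat.card E = (E : Set G).ncard := rfl
      rw [h2, h1, Set.ncard_coe_finset]
      have n1 : (1 : G) ≠ z := fun h => (Large.z_ne ‹_›) h.symm
      have n2 : (1 : G) ≠ v := fun h => hv1 h.symm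
      have n3 : (1 : G) ≠ v * z := fun h => hvzne h.symm
      have n4 : z ≠ v := fun h => hvz h.symm
      have n5 : z ≠ v * z := fun h1 => hv1 (by
        have h2 : 1 * z = v * z := by rw [one_mul]; exact h1
        exact (mul_right_cancel h2).symm)
      have n6 : v ≠ v * z := fun h1 => h.z_ne (by
        have h2 : v * 1 = v * z := by rw [mul_one]; exact h1
        exact (mul_left_cancel h2).symm)
      rw [Finset.card_insert_of_notMem, Finset.card_insert_of_notMem, Finset.card_insert_of_notMem,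
        Finset.card_singleton]
      · simpa using n6
      · simp only [Finset.mem_insert, Finset.mem_singleton, not_or]
        exact ⟨n4, n5⟩
      · simp only [Finset.mem_insert, Finset.mem_singleton, not_or]
        exact ⟨n1, n2, n3⟩
    refine four_dvd_of_sat E hEc _ ?_
    rintro a ⟨haQ, ha2, hav⟩ e he
    have haz : a * z = z * a := h.comm_z a haQ
    rcases he with he | he | he | he <;> rw [he]
    · rw [mul_one]; exact ⟨haQ, ha2, hav⟩
    · refine ⟨mul_mem haQ h.z_mem, ?_, ?_⟩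
      · calc a * z * (a * z) = a * (z * a) * z := by group
          _ = a * (a * z) * z := by rw [haz]
          _ = (a * a) * (z * z) := by group
          _ = 1 := by rw [ha2, hzz, one_mul]
      · calc a * z * v = a * (z * v) := by group
          _ = a * (v * z) := by rw [hvz']
          _ = (a * v) * z := by group
          _ = v * (a * z) := by rw [hav]; group
    · refine ⟨mul_mem haQ hv, ?_, ?_⟩
      · calc a * v * (a * v) = a * (v * a) * v := by group
          _ = a * (a * v) * v := by rw [hav]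
          _ = (a * a) * (v * v) := by group
          _ = 1 := by rw [ha2, hv2, one_mul]
      · calc a * v * v = v * a * v := by rw [hav]
          _ = v * (a * v) := by group
    · refine ⟨mul_mem haQ (mul_mem hv h.z_mem), ?_, ?_⟩
      · calc a * (v * z) * (a * (v * z)) = a * v * (z * a) * v * z := by group
          _ = a * v * (a * z) * v * z := by rw [haz]
          _ = a * (v * a) * (z * v) * z := by group
          _ = a * (a * v) * (v * z) * z := by rw [hav, hvz']
          _ = (a * a) * (v * v) * (z * z) := by group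
          _ = 1 := by rw [ha2, hv2, hzz, one_mul, one_mul]
      · calc a * (v * z) * v = a * v * (z * v) := by group
          _ = (a * v) * (v * z) := by rw [hvz']
          _ = (v * a) * (v * z) := by rw [hav]
          _ = v * (a * (v * z)) := by group
  have hY2 : 4 ∣ {x : G | x ∈ Q ∧ x * x = 1 ∧ x * v ≠ v * x}.ncard := by
    -- the centralizer of `v` in `Q`
    have hC : {x : G | x ∈ Q ∧ x * v = v * x}.ncard * 2 = Nat.card Q := by
      have e1 : (Q : Set G) = {x : G | x ∈ Q ∧ x * v = v * x} ∪ {x : G | x ∈ Q ∧ x * v ≠ v * x} := by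
        ext x
        simp only [SetLike.mem_coe, Set.mem_union, Set.mem_ofPred_eq]
        tauto
      have hd : Disjoint {x : G | x ∈ Q ∧ x * v = v * x} {x : G | x ∈ Q ∧ x * v ≠ v * x} := by
        rw [Set.disjoint_left]
        rintro x ⟨-, h1⟩ ⟨-, h2⟩
        exact h2 h1
      have e2 : {x : G | x ∈ Q ∧ x * v ≠ v * x} = (fun x => q * x) '' {x : G | x ∈ Q ∧ x * v = v * x} := by
        ext x
        constructor
        · rintro ⟨hxQ, hxv⟩
          have hxz : x * z = z * x := h.comm_z x hxQ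
          refine ⟨q⁻¹ * x, ⟨mul_mem (inv_mem hq) hxQ, ?_⟩, by show q * (q⁻¹ * x) = x; group⟩
          have h1 : v * x = x * v * z := by
            rcases h.comm v hv x hxQ with h1 | h1
            · exact absurd h1.symm hxv
            · exact h1
          have e1 : q * (q⁻¹ * x * v) = x * v := by group
          have e2 : q * (v * (q⁻¹ * x)) = x * v := by
            calc q * (v * (q⁻¹ * x)) = (q * v) * (q⁻¹ * x) := by group
              _ = (v * q * z) * (q⁻¹ * x) := by rw [hvq, mul_assoc (q * v) z z, hzz, mul_one]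
              _ = v * (q * z) * q⁻¹ * x := by group
              _ = v * z * x := by rw [h.comm_z q hq]; group
              _ = v * x * z := by rw [mul_assoc, ← hxz, ← mul_assoc]
              _ = x * v * z * z := by rw [h1]
              _ = x * v := by rw [mul_assoc (x * v), hzz, mul_one]
          exact mul_left_cancel (e1.trans e2.symm)
        · rintro ⟨y, ⟨hyQ, hyv⟩, rfl⟩
          refine ⟨mul_mem hq hyQ, fun h1 => ?_⟩
          have h1' : q * y * v = v * (q * y) := h1
          have h2 : q * v * y = q * v * z * y := by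
            calc q * v * y = q * (v * y) := by group
              _ = q * y * v := by rw [← hyv]; group
              _ = (v * q) * y := by rw [h1']; group
              _ = q * v * z * y := by rw [hvq]
          have h3 := mul_right_cancel h2
          exact h.z_ne (mul_left_cancel (h3.symm.trans (mul_one _).symm))
      have e3 : {x : G | x ∈ Q ∧ x * v ≠ v * x}.ncard = {x : G | x ∈ Q ∧ x * v = v * x}.ncard := by
        rw [e2]
        exact Set.ncard_image_of_injective _ (mul_right_injective q)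
      have e4 : Nat.card Q = (Q : Set G).ncard := rfl
      rw [e4, e1, Set.ncard_union_eq hd, e3, mul_two]
    have hB : {x : G | x ∈ Q ∧ x * v ≠ v * x}.ncard + {x : G | x ∈ Q ∧ x * v = v * x}.ncard = Nat.card Q := by
      have e1 : (Q : Set G) = {x : G | x ∈ Q ∧ x * v ≠ v * x} ∪ {x : G | x ∈ Q ∧ x * v = v * x} := by
        ext x
        simp only [SetLike.mem_coe, Set.mem_union, Set.mem_ofPred_eq]
        tauto
      have hd : Disjoint {x : G | x ∈ Q ∧ x * v ≠ v * x} {x : G | x ∈ Q ∧ x * v = v * x} := by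
        rw [Set.disjoint_left]
        rintro x ⟨-, h1⟩ ⟨-, h2⟩
        exact h1 h2
      have e4 : Nat.card Q = (Q : Set G).ncard := rfl
      rw [e4, e1, Set.ncard_union_eq hd]
    -- `x ↦ x v` exchanges the two halves
    have himg : {x : G | x ∈ Q ∧ x * x = z ∧ x * v ≠ v * x} =
        (fun x => x * v) '' {x : G | x ∈ Q ∧ x * x = 1 ∧ x * v ≠ v * x} := by
      have key : ∀ x ∈ Q, x * v ≠ v * x → x * v * (x * v) = x * x * z := by
        intro x hx hxv
        have h1 : v * x = x * v * z := (h.comm v hv x hx).resolve_left fun h => hxv h.symm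
        calc x * v * (x * v) = x * (v * x) * v := by group
          _ = x * (x * v * z) * v := by rw [h1]
          _ = x * x * v * (z * v) := by group
          _ = x * x * v * (v * z) := by rw [hvz']
          _ = x * x * (v * v) * z := by group
          _ = x * x * z := by rw [hv2, mul_one]
      have key2 : ∀ x, x * v ≠ v * x → x * v * v ≠ v * (x * v) := by
        intro x hxv h1
        apply hxv
        have h2 : x * v * v = v * x * v := by rw [h1]; group
        exact mul_right_cancel h2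
      ext x
      constructor
      · rintro ⟨hxQ, hx2, hxv⟩
        refine ⟨x * v, ⟨mul_mem hxQ hv, ?_, key2 x hxv⟩, ?_⟩
        · rw [key x hxQ hxv, hx2, hzz]
        · show x * v * v = x
          rw [mul_assoc, hv2, mul_one]
      · rintro ⟨y, ⟨hyQ, hy2, hyv⟩, rfl⟩
        refine ⟨mul_mem hyQ hv, ?_, key2 y hyv⟩
        show y * v * (y * v) = z
        rw [key y hyQ hyv, hy2, one_mul]
    have hsum : {x : G | x ∈ Q ∧ x * v ≠ v * x}.ncard =
        {x : G | x ∈ Q ∧ x * x = 1 ∧ x * v ≠ v * x}.ncard + {x : G | x ∈ Q ∧ x * x = z ∧ x * v ≠ v * x}.ncard := by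
      have e1 : {x : G | x ∈ Q ∧ x * v ≠ v * x} =
          {x : G | x ∈ Q ∧ x * x = 1 ∧ x * v ≠ v * x} ∪ {x : G | x ∈ Q ∧ x * x = z ∧ x * v ≠ v * x} := by
        ext x
        simp only [Set.mem_union, Set.mem_ofPred_eq]
        constructor
        · rintro ⟨hx, hxv⟩
          rcases h.sq x hx with h1 | h1
          · exact Or.inl ⟨hx, h1, hxv⟩
          · exact Or.inr ⟨hx, h1, hxv⟩
        · rintro (⟨hx, -, hxv⟩ | ⟨hx, -, hxv⟩) <;> exact ⟨hx, hxv⟩
      have hd : Disjoint {x : G | x ∈ Q ∧ x * x = 1 ∧ x * v ≠ v * x} {x : G | x ∈ Q ∧ x * x = z ∧ x * v ≠ v * x} := by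
        rw [Set.disjoint_left]
        rintro x ⟨-, h1, -⟩ ⟨-, h2, -⟩
        exact h.z_ne (h2.symm.trans h1)
      conv_lhs => rw [e1]
      rw [Set.ncard_union_eq hd]
    have heq : {x : G | x ∈ Q ∧ x * x = z ∧ x * v ≠ v * x}.ncard =
        {x : G | x ∈ Q ∧ x * x = 1 ∧ x * v ≠ v * x}.ncard := by
      rw [himg]
      exact Set.ncard_image_of_injective _ (mul_left_injective v)
    omega
  have hun : {x : G | x ∈ Q ∧ x * x = 1} = {x : G | x ∈ Q ∧ x * x = 1 ∧ x * v = v * x} ∪
      {x : G | x ∈ Q ∧ x * x = 1 ∧ x * v ≠ v * x} := by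
    ext x
    simp only [Set.mem_union, Set.mem_ofPred_eq]
    tauto
  have hd : Disjoint {x : G | x ∈ Q ∧ x * x = 1 ∧ x * v = v * x} {x : G | x ∈ Q ∧ x * x = 1 ∧ x * v ≠ v * x} := by
    rw [Set.disjoint_left]
    rintro x ⟨-, -, h1⟩ ⟨-, -, h2⟩
    exact h2 h1
  rw [hun, Set.ncard_union_eq hd]
  exact dvd_add hY1 hY2

/-- a finite set with an action of a `p`-group all of whose orbits have length divisible by `k` -/
theorem dvd_of_orbits {T : Type*} [Group T] [Finite T] {X : Type*} [Finite X] [MulAction T X] {k : ℕ}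
    (h : ∀ x : X, k ∣ Nat.card (MulAction.orbit T x)) : k ∣ Nat.card X := by
  classical
  have hfin : Finite (MulAction.orbitRel.Quotient T X) := Quotient.finite _
  have hft : Fintype (MulAction.orbitRel.Quotient T X) := Fintype.ofFinite _
  have e := MulAction.selfEquivSigmaOrbits T X
  rw [Nat.card_congr e, Nat.card_sigma]
  refine Finset.dvd_sum fun ω _ => ?_
  exact h _

/-- a Sylow 2-subgroup centralising `z` normalises a four-group `⟨z, v⟩` of `Q` -/
theorem exists_pair [Finite G] (h : Large Q z) (T : Sylow 2 G) (hT : ∀ t ∈ (T : Subgroup G), t * z = z * t)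
    (h16 : 16 ∣ Nat.card Q) {v : G} (hv : v ∈ Q) (hv2 : v * v = 1) (hv1 : v ≠ 1) (hvz : v ≠ z) :
    ∃ w ∈ Q, w * w = 1 ∧ w ≠ 1 ∧ w ≠ z ∧
      ∀ t ∈ (T : Subgroup G), t * w * t⁻¹ = w ∨ t * w * t⁻¹ = w * z := by
  classical
  have hf : Fact (Nat.Prime 2) := ⟨Nat.prime_two⟩
  have hzz := h.z_sq
  have hQT := le_sylow h T hT
  let X : Set G := {x | x ∈ Q ∧ x * x = 1 ∧ x ≠ 1 ∧ x ≠ z}
  have hXn : ¬ 4 ∣ X.ncard := by
    intro h4
    have hY := four_dvd_inv h h16 hv hv2 hv1 hvz
    have e1 : {x : G | x ∈ Q ∧ x * x = 1} = X ∪ {1, z} := by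
      ext x
      simp only [Set.mem_union, Set.mem_insert_iff, Set.mem_singleton_iff]
      constructor
      · rintro ⟨hx, hx2⟩
        by_cases hx1 : x = 1
        · exact Or.inr (Or.inl hx1)
        by_cases hxz : x = z
        · exact Or.inr (Or.inr hxz)
        exact Or.inl ⟨hx, hx2, hx1, hxz⟩
      · rintro (⟨hx, hx2, -, -⟩ | rfl | rfl)
        · exact ⟨hx, hx2⟩
        · exact ⟨one_mem _, one_mul 1⟩
        · exact ⟨h.z_mem, hzz⟩
    have hd : Disjoint X {1, z} := by
      rw [Set.disjoint_left]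
      rintro x ⟨-, -, h1, h2⟩ (rfl | rfl)
      · exact h1 rfl
      · exact h2 rfl
    rw [e1, Set.ncard_union_eq hd, Set.ncard_pair h.z_ne.symm] at hY
    omega
  have hconjX : ∀ t ∈ (T : Subgroup G), ∀ x ∈ X, t * x * t⁻¹ ∈ X := by
    rintro t ht x ⟨hx, hx2, hx1, hxz⟩
    have htz := hT t ht
    refine ⟨h.conj_mem t htz x hx, ?_, fun h1 => hx1 ?_, fun h1 => hxz ?_⟩
    · calc t * x * t⁻¹ * (t * x * t⁻¹) = t * (x * x) * t⁻¹ := by group
        _ = 1 := by rw [hx2]; group
    · calc x = t⁻¹ * (t * x * t⁻¹) * t := by group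
        _ = 1 := by rw [h1]; group
    · calc x = t⁻¹ * (t * x * t⁻¹) * t := by group
        _ = t⁻¹ * (z * t) := by rw [h1]; group
        _ = z := by rw [← htz]; group
  let act : MulAction (T : Subgroup G) X :=
    { smul := fun t x => ⟨(t : G) * x * (t : G)⁻¹, hconjX t t.2 x x.2⟩
      one_smul := fun x => Subtype.ext (by
        show (1 : G) * x * (1 : G)⁻¹ = x
        group)
      mul_smul := fun s t x => Subtype.ext (by
        show (s * t : G) * x * (s * t : G)⁻¹ = s * (t * x * (t : G)⁻¹) * (s : G)⁻¹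
        group) }
  have hsm : ∀ (t : (T : Subgroup G)) (x : X), ((t • x : X) : G) = (t : G) * x * (t : G)⁻¹ := fun _ _ => rfl
  by_contra hcon
  push Not at hcon
  apply hXn
  have hXc : X.ncard = Nat.card X := rfl
  rw [hXc]
  refine dvd_of_orbits (T := (T : Subgroup G)) fun x => ?_
  obtain ⟨t, ht, ht1, ht2⟩ := hcon x x.2.1 x.2.2.1 x.2.2.2.1 x.2.2.2.2
  -- an element of `Q` moving `x`
  obtain ⟨q, hq, hqx⟩ : ∃ q ∈ Q, (x : G) * q ≠ q * x := by
    by_contra hne
    push Not at hne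
    rcases h.cent x x.2.1 hne with h1 | h1
    · exact x.2.2.2.1 h1
    · exact x.2.2.2.2 h1
  have hqx' : q * x * q⁻¹ = x * z := by
    have h1 : (x : G) * q = q * x * z := (h.comm x x.2.1 q hq).resolve_left hqx
    have hqz : q * z = z * q := h.comm_z q hq
    calc q * x * q⁻¹ = q * x * (z * z) * q⁻¹ := by rw [hzz]; group
      _ = (q * x * z) * z * q⁻¹ := by group
      _ = x * (q * z) * q⁻¹ := by rw [← h1]; group
      _ = x * z := by rw [hqz]; group
  have hxzne : (x : G) * z ≠ x := fun h1 => h.z_ne (by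
    have h2 : (x : G) * z = x * 1 := by rw [h1, mul_one]
    exact mul_left_cancel h2)
  let y1 : X := (⟨q, hQT hq⟩ : (T : Subgroup G)) • x
  let y2 : X := (⟨t, ht⟩ : (T : Subgroup G)) • x
  have hy1 : (y1 : G) = x * z := by rw [← hqx']; exact hsm _ _
  have hy2 : (y2 : G) = t * x * t⁻¹ := hsm _ _
  have n1 : x ≠ y1 := fun h1 => hxzne (by rw [← hy1, ← h1])
  have n2 : x ≠ y2 := fun h1 => ht1 (by rw [← hy2, ← h1])
  have n3 : y1 ≠ y2 := fun h1 => ht2 (by rw [← hy2, ← h1, hy1])
  have hsub : ((({x, y1, y2} : Finset X)) : Set X) ⊆ MulAction.orbit (T : Subgroup G) x := by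
    intro y hy
    simp only [Finset.coe_insert, Finset.coe_singleton, Set.mem_insert_iff, Set.mem_singleton_iff] at hy
    rcases hy with rfl | rfl | rfl
    · exact MulAction.mem_orbit_self _
    · exact MulAction.mem_orbit _ _
    · exact MulAction.mem_orbit _ _
  have h3 : 3 ≤ Nat.card (MulAction.orbit (T : Subgroup G) x) := by
    have h4 := Set.ncard_le_ncard hsub (Set.toFinite _)
    rw [Set.ncard_coe_finset, Finset.card_insert_of_notMem, Finset.card_insert_of_notMem,
      Finset.card_singleton] at h4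
    · exact h4
    · simpa using n3
    · simp only [Finset.mem_insert, Finset.mem_singleton, not_or]
      exact ⟨n1, n2⟩
  have h5 : Nat.card (MulAction.orbit (T : Subgroup G) x) ∣ Nat.card (T : Subgroup G) := by
    rw [Nat.card_congr (MulAction.orbitEquivQuotientStabilizer (T : Subgroup G) x)]
    exact Subgroup.index_dvd_card _
  obtain ⟨n, hn⟩ := IsPGroup.iff_card.1 T.isPGroup'
  rw [hn] at h5
  obtain ⟨k, -, hk⟩ := (Nat.dvd_prime_pow Nat.prime_two).1 h5
  rw [hk] at h3 ⊢
  have hk2 : 2 ≤ k := by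
    by_contra hlt
    push Not at hlt
    have : k = 0 ∨ k = 1 := by omega
    rcases this with rfl | rfl <;> norm_num at h3
  obtain ⟨j, rfl⟩ := Nat.exists_eq_add_of_le hk2
  exact ⟨2 ^ j, by rw [pow_add]; norm_num⟩

/-- **`C(z)` transitive on the noncentral involutions of `Q`** -/
theorem good_of_trans [Finite G] {π : Set ℕ} (h2 : 2 ∈ π) (h3 : 3 ∈ π) (h : Large Q z) {L : Type v} [Group L]
    {f : centralizer ({z} : Set G) →* L} (hf : Function.Surjective f) (hker : ∀ c, f c = 1 → (c : G) ∈ Q)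
    (hL : Good π L) (hodd : ¬ 2 ∣ (centralizer ({z} : Set G)).index) (h16 : 16 ∣ Nat.card Q)
    {n : G} (hv : n * z * n⁻¹ ∈ Q) (hvz : n * z * n⁻¹ ≠ z)
    (htr : ∀ w ∈ Q, w * w = 1 → w ≠ 1 → w ≠ z → ∃ c : G, c * z = z * c ∧ c * (n * z * n⁻¹) * c⁻¹ = w)
    (hgen : closure ({c : G | c * z = z * c} ∪ {n}) = ⊤) : Good π G := by
  have hzz := h.z_sq
  obtain ⟨T, hT⟩ := exists_sylow_le hodd
  have hTz : ∀ t ∈ (T : Subgroup G), t * z = z * t := fun t ht => mem_centralizer_singleton_iff.1 (hT ht)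
  have hv2 : n * z * n⁻¹ * (n * z * n⁻¹) = 1 := by
    calc n * z * n⁻¹ * (n * z * n⁻¹) = n * (z * z) * n⁻¹ := by group
      _ = 1 := by rw [hzz]; group
  have hv1 : n * z * n⁻¹ ≠ 1 := by
    intro h1
    apply h.z_ne
    calc z = n⁻¹ * (n * z * n⁻¹) * n := by group
      _ = 1 := by rw [h1]; group
  obtain ⟨w, hwQ, hw2, hw1, hwz, hwT⟩ := exists_pair h T hTz h16 hv hv2 hv1 hvz
  obtain ⟨c, hc, hcw⟩ := htr w hwQ hw2 hw1 hwz
  have e : c * n * z * (c * n)⁻¹ = w := by rw [← hcw]; group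
  refine good_of_large h2 h3 h T hTz hf hker hL (n := c * n) (by rw [e]; exact hwQ) (by rw [e]; exact hwz)
    (by rw [e]; exact hwT) ?_
  rw [eq_top_iff, ← hgen, closure_le]
  rintro x (hx | rfl)
  · exact subset_closure (Or.inl hx)
  · have m1 : c ∈ closure ({c : G | c * z = z * c} ∪ {c * x}) := subset_closure (Or.inl hc)
    have m2 : c * x ∈ closure ({c : G | c * z = z * c} ∪ {c * x}) := subset_closure (Or.inr rfl)
    have m3 := mul_mem (inv_mem m1) m2
    rwa [inv_mul_cancel_left] at m3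

end Cfsg.Agent.H861.PiS
end

-- part: H861/PiS/Tools2
section
/-!
# S3876: normalisers of small sets of involutions are `π`-groups (helper861)
-/

set_option autoImplicit false

namespace Cfsg.Agent.H861.PiS

open Cfsg Subgroup
open Cfsg.Agent.H841.PiBS Cfsg.Agent.H543.PiBS

universe u v

/-- the normaliser of a small set containing `z` is a `π`-group if `C(z)` is one -/
theorem isPi_normalizer_fin {G : Type u} [Group G] [Finite G] {π : Set ℕ} (M : Finset G) {z : G} (hz : z ∈ M)
    (hC : IsPiSubgroup π (centralizer ({z} : Set G))) (hM : ∀ p : ℕ, p.Prime → p ∉ π → M.card < p) :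
    IsPiSubgroup π (normalizer (M : Set G)) := by
  intro p hp hd
  by_contra hpi
  have hpf : Fact p.Prime := ⟨hp⟩
  obtain ⟨x, hx⟩ := exists_prime_orderOf_dvd_card' p hd
  have hxp : (x : G) ^ p = 1 := by
    have : x ^ p = 1 := by rw [← hx]; exact pow_orderOf_eq_one x
    exact congrArg Subtype.val this
  have h1 : ((MulAut.conj (x : G)).toEquiv : Equiv.Perm G) ^ p = 1 := by
    have key : ∀ k : ℕ, ∀ y : G, (((MulAut.conj (x : G)).toEquiv : Equiv.Perm G) ^ k) y = (x : G) ^ k * y * ((x : G) ^ k)⁻¹ := by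
      intro k
      induction k with
      | zero => intro y; rw [pow_zero, pow_zero, Equiv.Perm.one_apply]; group
      | succ k ih =>
        intro y
        rw [pow_succ', Equiv.Perm.mul_apply, ih]
        show (x : G) * ((x : G) ^ k * y * ((x : G) ^ k)⁻¹) * (x : G)⁻¹ = _
        rw [pow_succ']
        group
    ext y
    rw [key, hxp, Equiv.Perm.one_apply]
    group
  have h2 := fix_of_small ((MulAut.conj (x : G)).toEquiv : Equiv.Perm G) hp h1 M (hM p hp hpi) (fun y hy =>
    ((mem_set_normalizer_iff).1 x.2 y).1 hy) z hz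
  have h3 : (x : G) * z * (x : G)⁻¹ = z := h2
  have h4 : (x : G) ∈ centralizer ({z} : Set G) := by
    rw [mem_centralizer_singleton_iff]
    calc (x : G) * z = (x : G) * z * (x : G)⁻¹ * x := by group
      _ = z * x := by rw [h3]
  have h5 : orderOf (⟨(x : G), h4⟩ : centralizer ({z} : Set G)) = p := by
    rw [orderOf_mk, ← hx, orderOf_coe]
  exact hpi (hC p hp (h5 ▸ orderOf_dvd_natCard _))

/-- `Good` gives the row -/
theorem row_of_good {S : Type*} [Group S] [Finite S] {π : Set ℕ} (hg : Good π S) (h2 : 2 ∈ π) (hD : DC π S) :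
    PiGrp π S := hg (DT.of_dPi hD.isDPi h2)

/-- the conclusion from a generating overgroup -/
theorem pg_of_top {G : Type u} [Group G] [Finite G] {π : Set ℕ} {H : Subgroup G} (hH : IsPiSubgroup π H)
    (htop : H = ⊤) : PG π G := by
  intro p hp hd
  rw [← card_top (G := G), ← htop] at hd
  exact hH p hp hd

end Cfsg.Agent.H861.PiS
end
end

-- part: H861/PiS/AltTools
section
set_option linter.all false
open scoped Cfsg.Agent.FastGrp

/-!
# S3876: tools for permutation groups (helper861)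
-/

set_option autoImplicit false

namespace Cfsg.Agent.H861.PiS

open Cfsg Subgroup
open Cfsg.Agent.H841.PiBS
open Cfsg.Agent.GH.Pc Cfsg.Agent.GH.Models.Proj

universe u v

/-- elements of prime order `p ≥ 5` commuting with an involution with few cycles -/
theorem comm_five {X : Type*} [DecidableEq X] [Fintype X] (z : Equiv.Perm X)
    (hF : ((Finset.univ.filter fun b => z b ≠ b).image fun b => ({b, z b} : Finset X)).card < 5)
    (hfix : (Finset.univ.filter fun b => z b = b).card < 5) {p : ℕ} (hp : p.Prime) (h5 : 5 ≤ p) (g : Equiv.Perm X)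
    (hg : g ^ p = 1) (hc : g * z = z * g) : g = 1 := by
  have hc' : ∀ a, g (z a) = z (g a) := fun a => Equiv.Perm.congr_fun hc a
  refine eq_one_of_blocks g hp h5 hg
    ((Finset.univ.filter fun b => z b ≠ b).image fun b => ({b, z b} : Finset X)) hF ?_ ?_ ?_
  · intro B hB
    rw [Finset.mem_image] at hB
    obtain ⟨b, -, rfl⟩ := hB
    exact lt_of_le_of_lt (Finset.card_insert_le _ _) (by rw [Finset.card_singleton]; norm_num)
  · intro B hB
    rw [Finset.mem_image] at hB ⊢
    obtain ⟨b, hb, rfl⟩ := hB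
    rw [Finset.mem_filter] at hb
    refine ⟨g b, ?_, ?_⟩
    · rw [Finset.mem_filter]
      refine ⟨Finset.mem_univ _, fun h => hb.2 ?_⟩
      rw [← hc'] at h
      exact g.injective h
    · rw [Finset.map_insert, Finset.map_singleton]
      show ({g b, z (g b)} : Finset X) = {g b, g (z b)}
      rw [hc']
  · refine lt_of_le_of_lt (Finset.card_le_card ?_) hfix
    intro x hx
    rw [Finset.mem_sdiff] at hx
    rw [Finset.mem_filter]
    refine ⟨Finset.mem_univ _, ?_⟩
    by_contra hne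
    apply hx.2
    rw [Finset.mem_biUnion]
    exact ⟨{x, z x}, Finset.mem_image.2 ⟨x, Finset.mem_filter.2 ⟨Finset.mem_univ _, hne⟩, rfl⟩,
      Finset.mem_insert_self _ _⟩

/-- membership in the normaliser of a finite set -/
theorem mem_norm_fin {G : Type u} [Group G] {S : Set G} (hS : S.Finite) {g : G} (h : ∀ x ∈ S, g * x * g⁻¹ ∈ S) :
    g ∈ normalizer S := by
  refine mem_norm_of h ?_
  have hinj : Set.InjOn (fun x => g * x * g⁻¹) S := fun a _ b _ he => by
    have he' : g * a * g⁻¹ = g * b * g⁻¹ := he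
    exact mul_left_cancel (mul_right_cancel he')
  have himg : (fun x => g * x * g⁻¹) '' S = S := by
    apply Set.eq_of_subset_of_ncard_le _ _ hS
    · rintro _ ⟨x, hx, rfl⟩
      exact h x hx
    · rw [hinj.ncard_image]
  intro x hx
  rw [← himg] at hx
  obtain ⟨y, hy, rfl⟩ := hx
  show g⁻¹ * (g * y * g⁻¹) * g ∈ S
  have e : g⁻¹ * (g * y * g⁻¹) * g = y := by group
  rw [e]
  exact hy

theorem mem_norm_VV {G : Type u} [Group G] {z v g : G} (h1 : g * z = z * g ∨ g * z = v * g ∨ g * z = v * z * g)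
    (h2 : g * v = z * g ∨ g * v = v * g ∨ g * v = v * z * g)
    (h3 : g * (v * z) = z * g ∨ g * (v * z) = v * g ∨ g * (v * z) = v * z * g) : g ∈ normalizer (VV z v) := by
  have hfin : (VV z v).Finite := (((Set.finite_singleton (v * z)).insert v).insert z)
  refine mem_norm_fin hfin ?_
  have key : ∀ x : G, (g * x = z * g ∨ g * x = v * g ∨ g * x = v * z * g) → g * x * g⁻¹ ∈ VV z v := by
    rintro x (h | h | h)
    · exact Or.inl (by rw [h]; group)
    · exact Or.inr (Or.inl (by rw [h]; group))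
    · exact Or.inr (Or.inr (by show _ = v * z; rw [h]; group))
  rintro x (rfl | rfl | rfl)
  · exact key _ h1
  · exact key _ h2
  · exact key _ h3

/-- the normal forms are trivial only for the zero vector -/
theorem nf_inj_of {n : ℕ} {G : Type*} [Group G] [DecidableEq G] (x : Fin n → G)
    (h : allB n (fun e => isZ e || !decide (nf x e = 1)) = true) :
    ∀ e : Fin n → Bool, nf x e = 1 → e = fun _ => false := by
  intro e he
  have h1 := allB_spec h e
  rw [Bool.or_eq_true] at h1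
  rcases h1 with h1 | h1
  · exact isZ_spec h1
  · rw [decide_eq_true he] at h1
    exact absurd h1 (by decide)

/-- the centre of the family -/
theorem cen_of {n : ℕ} {G : Type*} [Group G] [DecidableEq G] (x : Fin n → G) (z : G)
    (h : allB n (fun e => decide (nf x e = 1) || decide (nf x e = z) || !decide (∀ i, x i * nf x e = nf x e * x i)) =
      true) :
    ∀ e : Fin n → Bool, (∀ i, x i * nf x e = nf x e * x i) → nf x e ≠ 1 → nf x e = z := by
  intro e he hne
  have h1 := allB_spec h e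
  rw [Bool.or_eq_true, Bool.or_eq_true] at h1
  rcases h1 with (h1 | h1) | h1
  · exact absurd (of_decide_eq_true h1) hne
  · exact of_decide_eq_true h1
  · rw [decide_eq_true he] at h1
    exact absurd h1 (by decide)

end Cfsg.Agent.H861.PiS
end

-- part: H861/PiS/BabyRow
section
set_option linter.all false
open scoped Cfsg.Agent.FastGrp

-- part: H861/PiS/SpSix
section
/-!
# S3876: `Good π Sp₆(2)` (helper861)
-/

set_option autoImplicit false

namespace Cfsg.Agent.H861.PiS

/-- an `F₂`-linear map of prime order `p ≥ 5` fixing `N` pointwise and acting on `M/N` of order `≤ 4` is trivial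
on `M` -/
theorem lin_step {V : Type*} [AddCommGroup V] (h2 : ∀ v : V, v + v = 0) (f : V → V)
    (hadd : ∀ u v, f (u + v) = f u + f v) {p : ℕ} (hp : p.Prime) (h5 : 5 ≤ p) (hf : ∀ v, f^[p] v = v) (N M : Set V)
    (hM : ∀ m ∈ M, f m ∈ M) (hN : ∀ n ∈ N, f n = n) {κ : Type*} [Fintype κ] (hκ : Fintype.card κ < 5)
    (r : V → κ) (hr : ∀ m ∈ M, ∀ m' ∈ M, r m = r m' → m + m' ∈ N) : ∀ m ∈ M, f m = m := by
  intro m hm
  have hMk : ∀ k : ℕ, f^[k] m ∈ M := by
    intro k
    induction k with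
    | zero => exact hm
    | succ k ih => rw [Function.iterate_succ_apply']; exact hM _ ih
  have haddk : ∀ k : ℕ, ∀ u v, f^[k] (u + v) = f^[k] u + f^[k] v := by
    intro k
    induction k with
    | zero => intro u v; rfl
    | succ k ih => intro u v; rw [Function.iterate_succ_apply', ih, hadd, Function.iterate_succ_apply',
        Function.iterate_succ_apply']
  have hinj : ∀ k : ℕ, Function.Injective (f^[k]) := by
    have h1 : Function.Injective f := by
      intro a b h
      have hp1 : p = (p - 1) + 1 := by have := hp.two_le; omega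
      rw [← hf a, ← hf b, hp1, Function.iterate_succ_apply, Function.iterate_succ_apply, h]
    intro k
    exact h1.iterate k
  have hcard : Fintype.card κ < Fintype.card (Fin p) := by rw [Fintype.card_fin]; omega
  obtain ⟨i, j, hij, he⟩ := Fintype.exists_ne_map_eq_of_card_lt (fun k : Fin p => r (f^[k.val] m)) hcard
  have key : ∀ i j : ℕ, i < j → j < p → r (f^[i] m) = r (f^[j] m) → f m = m := by
    intro i j hij hj he
    obtain ⟨m', hm'⟩ : ∃ m', m' = f^[i] m := ⟨_, rfl⟩
    obtain ⟨d, hd⟩ : ∃ d, d = j - i := ⟨_, rfl⟩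
    have hj' : f^[j] m = f^[d] m' := by
      rw [hm', ← Function.iterate_add_apply, hd, Nat.sub_add_cancel hij.le]
    obtain ⟨n, hn⟩ : ∃ n, n = m' + f^[d] m' := ⟨_, rfl⟩
    have hnN : n ∈ N := by
      rw [hn, ← hj', hm']
      exact hr _ (hMk i) _ (hMk j) he
    have hfn : ∀ k : ℕ, f^[k] n = n := by
      intro k
      induction k with
      | zero => rfl
      | succ k ih => rw [Function.iterate_succ_apply', ih, hN n hnN]
    have h3 : f^[d] m' = m' + n := by
      rw [hn, ← add_assoc, h2, zero_add]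
    have h4 : f^[d + d] m' = m' := by
      rw [Function.iterate_add_apply, h3, haddk, h3, hfn, add_assoc, h2, add_zero]
    have hcop : Nat.Coprime (d + d) p := by
      refine (Nat.coprime_comm.1 ((Nat.Prime.coprime_iff_not_dvd hp).2 fun hdv => ?_))
      rw [← two_mul] at hdv
      rcases (Nat.Prime.dvd_mul hp).1 hdv with h | h
      · have := Nat.le_of_dvd (by norm_num) h
        omega
      · have := Nat.le_of_dvd (by omega) h
        omega
    have h5 : Function.IsPeriodicPt f (d + d) m' := h4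
    have h6 : Function.IsPeriodicPt f p m' := hf m'
    have h7 := h5.gcd h6
    rw [hcop] at h7
    have h8 : f m' = m' := h7
    rw [hm', ← Function.iterate_succ_apply' f i m, Function.iterate_succ_apply] at h8
    exact hinj i h8
  have hij' : i.val ≠ j.val := fun h => hij (Fin.ext h)
  rcases lt_trichotomy i.val j.val with h | h | h
  · exact key i j h j.2 he
  · exact absurd h hij'
  · exact key j i h i.2 he.symm

namespace SpSix

open Cfsg Subgroup
open Cfsg.Agent.H841.PiBS
open Cfsg.Agent.GH.Pc Cfsg.Agent.GH.Models.Proj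
open Cfsg.Agent.SporRec.TwoSp6.Sp

/-- the product of the coded transvections -/
def el (l : List ℕ) : S := (l.map fun c => tr (enc c)).prod

theorem el_nil : el [] = 1 := rfl

theorem el_cons (c : ℕ) (l : List ℕ) : el (c :: l) = tr (enc c) * el l := by
  unfold el
  rw [List.map_cons, List.prod_cons]

theorem el_append (l m : List ℕ) : el (l ++ m) = el l * el m := by
  unfold el
  rw [List.map_append, List.prod_append]

theorem el_pow (l : List ℕ) (k : ℕ) : el l ^ k = el (List.replicate k l).flatten := by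
  induction k with
  | zero => rfl
  | succ k ih => rw [pow_succ', ih, List.replicate_succ, List.flatten_cons, el_append]

/-- the action on codes -/
def st1 (c v : ℕ) : ℕ := if fN v c then v ^^^ c else v

def ap (l : List ℕ) (v : ℕ) : ℕ := l.foldr st1 v

theorem act_tr_enc (c v : ℕ) : act (tr (enc c)) (enc v) = enc (st1 c v) := by
  rw [act_tr, om_enc]
  unfold st1
  by_cases h : fN v c
  · rw [if_pos h, if_pos h, one_smul, enc_xor]
  · rw [if_neg h, if_neg h, zero_smul, add_zero]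

theorem act_el (l : List ℕ) (v : ℕ) : act (el l) (enc v) = enc (ap l v) := by
  induction l with
  | nil => rw [el_nil, act_one]; rfl
  | cons c l ih => rw [el_cons, act_mul, ih, act_tr_enc]; rfl

theorem ap_lt (l : List ℕ) (hl : ∀ c ∈ l, c < 64) {v : ℕ} (hv : v < 64) : ap l v < 64 := by
  induction l with
  | nil => exact hv
  | cons c l ih =>
    have h1 := ih fun c hc => hl c (List.mem_cons_of_mem _ hc)
    have h2 := hl c List.mem_cons_self
    show st1 c (ap l v) < 64
    unfold st1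
    split
    · exact Nat.xor_lt_two_pow (n := 6) h1 h2
    · exact h1

private def dec6 (v : V) : ℕ := (v (Sum.inl 0)).val + 2 * (v (Sum.inl 1)).val + 4 * (v (Sum.inl 2)).val +
  8 * (v (Sum.inr 0)).val + 16 * (v (Sum.inr 1)).val + 32 * (v (Sum.inr 2)).val

private theorem dec6_enc : ∀ c < 64, dec6 (enc c) = c := by decide +kernel

theorem enc_inj : ∀ c < 64, ∀ d < 64, enc c = enc d → c = d := fun c hc d hd h => by
  rw [← dec6_enc c hc, h, dec6_enc d hd]

/-- the images of the basis -/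
def tb (l : List ℕ) : List ℕ := [ap l 1, ap l 2, ap l 4, ap l 8, ap l 16, ap l 32]

theorem ext_basis {g h : S} (H : ∀ k < 6, act g (enc (2 ^ k)) = act h (enc (2 ^ k))) : g = h := by
  apply act_ext
  intro x
  obtain ⟨c, hc, rfl⟩ := exists_enc x
  have hz : enc 0 = 0 := by decide
  have h0 : ∀ g : S, act g 0 = 0 := fun g => by
    have h1 := act_add g 0 0
    rw [add_self, add_self] at h1
    exact h1
  have hstep : ∀ c < 64, c ≠ 0 → ∃ k < 6, c ^^^ 2 ^ k < c ∧ (c ^^^ 2 ^ k) ^^^ 2 ^ k = c := by decide +kernel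
  have key : ∀ n c, c < n → c < 64 → act g (enc c) = act h (enc c) := by
    intro n
    induction n with
    | zero => intro c h; exact absurd h (Nat.not_lt_zero _)
    | succ n ih =>
      intro c hn hc
      by_cases hc0 : c = 0
      · rw [hc0, hz, h0, h0]
      · obtain ⟨k, hk, h1, h2⟩ := hstep c hc hc0
        rw [← h2, enc_xor, act_add, act_add, ih _ (by omega) (by omega), H k hk]
  exact key _ c (Nat.lt_succ_self _) hc

theorem el_eq {l m : List ℕ} (h : tb l = tb m) : el l = el m := by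
  apply ext_basis
  intro k hk
  rw [act_el, act_el]
  unfold tb at h
  simp only [List.cons.injEq, and_true] at h
  obtain ⟨h1, h2, h3, h4, h5, h6⟩ := h
  congr 1
  have hk' : k = 0 ∨ k = 1 ∨ k = 2 ∨ k = 3 ∨ k = 4 ∨ k = 5 := by omega
  rcases hk' with rfl | rfl | rfl | rfl | rfl | rfl
  · exact h1
  · exact h2
  · exact h3
  · exact h4
  · exact h5
  · exact h6

theorem tb_eq {l m : List ℕ} (hl : ∀ c ∈ l, c < 64) (hm : ∀ c ∈ m, c < 64) (h : el l = el m) : tb l = tb m := by
  have key : ∀ v < 64, ap l v = ap m v := by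
    intro v hv
    refine enc_inj _ (ap_lt l hl hv) _ (ap_lt m hm hv) ?_
    rw [← act_el, ← act_el, h]
  unfold tb
  rw [key 1 (by norm_num), key 2 (by norm_num), key 4 (by norm_num), key 8 (by norm_num), key 16 (by norm_num),
    key 32 (by norm_num)]

/-- the words of the polycyclic family -/
def xw : Fin 9 → List ℕ := ![[1, 16, 17], [2, 32, 34], [4], [1, 32, 33], [2, 4, 6], [1, 4, 5], [2], [1, 2, 3], [1]]

theorem xw_lt : ∀ i, ∀ c ∈ xw i, c < 64 := by decide

def x (i : Fin 9) : S := el (xw i)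

def P : Pres 9 where
  sq _ := []
  cj i j := match i.val, j.val with
    | 0, 1 => [1, 3]
    | 0, 4 => [4, 5]
    | 0, 6 => [6, 7, 8]
    | 1, 2 => [2, 4, 6]
    | 1, 5 => [5, 7]
    | 2, 3 => [3, 5, 8]
    | 3, 4 => [4, 7]
    | _, _ => [j]

theorem P_ok : P.Ok := by decide

theorem word_x (l : List (Fin 9)) : word x l = el (l.flatMap xw) := by
  induction l with
  | nil => rfl
  | cons i l ih => rw [word_cons, ih, List.flatMap_cons, el_append]; rfl

theorem flat_lt (l : List (Fin 9)) : ∀ c ∈ l.flatMap xw, c < 64 := by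
  intro c hc
  rw [List.mem_flatMap] at hc
  obtain ⟨i, -, hi⟩ := hc
  exact xw_lt i c hi

theorem sq_chk : ∀ i, tb (xw i ++ xw i) = tb ((P.sq i).flatMap xw) := by decide +kernel

theorem cj_chk : ∀ i j, i < j → tb (xw i ++ xw j) = tb ((P.cj i j).flatMap xw ++ xw i) := by decide +kernel

theorem sat : Sat P x := by
  constructor
  · intro i
    rw [word_x]
    show el (xw i) * el (xw i) = _
    rw [← el_append]
    exact el_eq (sq_chk i)
  · intro i j hij
    rw [word_x]
    show el (xw i) * el (xw j) = _ * el (xw i)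
    rw [← el_append, ← el_append]
    exact el_eq (cj_chk i j hij)

/-- the word of the normal form -/
def wl (e : Fin 9 → Bool) : List ℕ := ((List.finRange 9).filter fun i => e i).flatMap xw

theorem nf_eq (e : Fin 9 → Bool) : nf x e = el (wl e) := word_x _

/-- the tables of the nine generators -/
private def GT6 : ℕ := 0xfbff3debbe39df6d74cf2c70bafb2daaba299e69648e286079f71d69b6195d65544d245038f30d28b2091c61440c2040f3dfbfe39ebbdb7d35cb3c31b6cbeea68aea9e69648e286071d79f61969b59751549341134c3ce2482ca1c61440c2040f7cffee78efad74df6c70cf2beeb6caeaa689e69648e286075c7de6586da5545d64504d23ce34c2ca2481c61440c2040ebbe39fbff3ddb7d35cb3c31aaba29bafb2d9a79258a38216da6587de75c5d65544d24502ca2483ce34c1c61440c2040e78efaf7cffec70cf2d74df6b6cbeea68aea9649e68608e26da6587de75c4d24505d65543ce34c2ca2481c61440c204079f71d6da658db7d35cf2c7038f30d2ca2489a79258e2860fbff3defae785975154d2450bafb2daeaa681871050c2040efae78ffef7ccf2c70df6d74aeaa68beeb6c8e28609e69647de75c6da6585d65544d24503ce34c2ca2481c61440c204075c7de6da6585545d64d2450b6cbeeaeaa689649e68e2860f7cffeefae78d74df6cf2c7034c3ce2ca2481441c60c2040bafb6caaba68db7d74cb3c70fbff7cebbe789a79648a386038f34c28b24859755449345079f75c69b658187144083040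

private def gt6 (i v : ℕ) : ℕ := Nat.land (Nat.shiftRight GT6 (Nat.add (Nat.mul 384 i) (Nat.mul 6 v))) 63

private theorem gt6_eq : ∀ i : Fin 9, ∀ v < 64, ap (xw i) v = gt6 i.1 v := by decide +kernel

private def apF (e : Fin 9 → Bool) (v : ℕ) : ℕ :=
  cond (e 0) (gt6 0) id (cond (e 1) (gt6 1) id (cond (e 2) (gt6 2) id (cond (e 3) (gt6 3) id (cond (e 4) (gt6 4) id
    (cond (e 5) (gt6 5) id (cond (e 6) (gt6 6) id (cond (e 7) (gt6 7) id (cond (e 8) (gt6 8) id v))))))))

private theorem ap_append (l m : List ℕ) (v : ℕ) : ap (l ++ m) v = ap l (ap m v) := List.foldr_append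

private theorem apF_eq (e : Fin 9 → Bool) (v : ℕ) (hv : v < 64) : ap (wl e) v = apF e v := by
  have key : ∀ l : List (Fin 9), ap ((l.filter fun i => e i).flatMap xw) v =
      l.foldr (fun i a => cond (e i) (gt6 i.1) id a) v := by
    intro l
    induction l with
    | nil => rfl
    | cons i l ih =>
      rw [List.foldr_cons, ← ih, List.filter_cons]
      cases h : e i
      · rfl
      · rw [if_pos rfl, List.flatMap_cons, ap_append]
        exact gt6_eq i _ (ap_lt _ (flat_lt _) hv)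
  exact key _

private theorem tb_wl (e : Fin 9 → Bool) :
    tb (wl e) = [apF e 1, apF e 2, apF e 4, apF e 8, apF e 16, apF e 32] := by
  rw [← apF_eq e 1 (by decide), ← apF_eq e 2 (by decide), ← apF_eq e 4 (by decide), ← apF_eq e 8 (by decide),
    ← apF_eq e 16 (by decide), ← apF_eq e 32 (by decide)]
  rfl

private theorem ap_l (i : Fin 9) (e : Fin 9 → Bool) (v : ℕ) (hv : v < 64) :
    ap (xw i ++ wl e) v = gt6 i.1 (apF e v) := by
  rw [ap_append, gt6_eq i (ap (wl e) v) (ap_lt _ (flat_lt _) hv), apF_eq e v hv]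

private theorem ap_r (i : Fin 9) (e : Fin 9 → Bool) (v : ℕ) (hv : v < 64) :
    ap (wl e ++ xw i) v = apF e (gt6 i.1 v) := by
  rw [ap_append, apF_eq e _ (ap_lt _ (xw_lt i) hv), gt6_eq i v hv]

private theorem tb_l (i : Fin 9) (e : Fin 9 → Bool) : tb (xw i ++ wl e) = [gt6 i.1 (apF e 1), gt6 i.1 (apF e 2),
    gt6 i.1 (apF e 4), gt6 i.1 (apF e 8), gt6 i.1 (apF e 16), gt6 i.1 (apF e 32)] := by
  rw [← ap_l i e 1 (by decide), ← ap_l i e 2 (by decide), ← ap_l i e 4 (by decide), ← ap_l i e 8 (by decide),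
    ← ap_l i e 16 (by decide), ← ap_l i e 32 (by decide)]
  rfl

private theorem tb_r (i : Fin 9) (e : Fin 9 → Bool) : tb (wl e ++ xw i) = [apF e (gt6 i.1 1), apF e (gt6 i.1 2),
    apF e (gt6 i.1 4), apF e (gt6 i.1 8), apF e (gt6 i.1 16), apF e (gt6 i.1 32)] := by
  rw [← ap_r i e 1 (by decide), ← ap_r i e 2 (by decide), ← ap_r i e 4 (by decide), ← ap_r i e 8 (by decide),
    ← ap_r i e 16 (by decide), ← ap_r i e 32 (by decide)]
  rfl

theorem nf_chk : allB 9 (fun e => isZ e || !decide (tb (wl e) = tb [])) = true := by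
  have h : (fun e => isZ e || !decide (tb (wl e) = tb [])) = fun e => isZ e ||
      !decide ([apF e 1, apF e 2, apF e 4, apF e 8, apF e 16, apF e 32] = tb []) := funext fun e => by rw [tb_wl]
  rw [h]
  decide +kernel

theorem nf_x (e : Fin 9 → Bool) (h : nf x e = 1) : e = fun _ => false := by
  have h1 := allB_spec nf_chk e
  rw [Bool.or_eq_true] at h1
  rcases h1 with h1 | h1
  · exact isZ_spec h1
  · rw [nf_eq, ← el_nil] at h
    have h2 := tb_eq (flat_lt _) (by simp) h
    rw [show tb (wl e) = tb [] from h2] at h1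
    exact absurd h1 (by decide)

theorem cen_chk : allB 9 (fun e => decide (tb (wl e) = tb []) || decide (tb (wl e) = tb (xw 7)) ||
    fN 8 (ap (wl e) 8) || (List.finRange 9).any fun i => !decide (tb (xw i ++ wl e) = tb (wl e ++ xw i))) = true := by
  have h : (fun e => decide (tb (wl e) = tb []) || decide (tb (wl e) = tb (xw 7)) ||
      fN 8 (ap (wl e) 8) || (List.finRange 9).any fun i => !decide (tb (xw i ++ wl e) = tb (wl e ++ xw i))) =
      fun e => decide ([apF e 1, apF e 2, apF e 4, apF e 8, apF e 16, apF e 32] = tb []) ||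
        decide ([apF e 1, apF e 2, apF e 4, apF e 8, apF e 16, apF e 32] = tb (xw 7)) || fN 8 (apF e 8) ||
        (List.finRange 9).any fun i => !decide ([gt6 i.1 (apF e 1), gt6 i.1 (apF e 2), gt6 i.1 (apF e 4),
          gt6 i.1 (apF e 8), gt6 i.1 (apF e 16), gt6 i.1 (apF e 32)] = [apF e (gt6 i.1 1), apF e (gt6 i.1 2),
          apF e (gt6 i.1 4), apF e (gt6 i.1 8), apF e (gt6 i.1 16), apF e (gt6 i.1 32)]) := funext fun e => by
    rw [tb_wl, apF_eq e 8 (by decide)]
    congr 2
    funext i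
    rw [tb_l, tb_r]
  rw [h]
  decide +kernel

/-- the invariant -/
def I (w : S) : Prop := w ≠ 1 ∧ ∀ v, om v (act w v) = 0

theorem I_conj (g w : S) (h : I w) : I (g * w * g⁻¹) := by
  refine ⟨fun h1 => h.1 ?_, fun v => ?_⟩
  · calc w = g⁻¹ * (g * w * g⁻¹) * g := by group
      _ = 1 := by rw [h1]; group
  · have h1 := h.2 (act g⁻¹ v)
    rw [← act_om g, ← act_mul, ← act_mul, mul_inv_cancel, act_one, ← act_mul] at h1
    exact h1

theorem cen_x (e : Fin 9 → Bool) (h : ∀ i, x i * nf x e = nf x e * x i) (hI : I (nf x e)) : nf x e = x 7 := by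
  have h1 := allB_spec cen_chk e
  rw [nf_eq] at h hI ⊢
  rw [Bool.or_eq_true, Bool.or_eq_true, Bool.or_eq_true] at h1
  rcases h1 with ((h1 | h1) | h1) | h1
  · exact absurd (el_eq (of_decide_eq_true h1)) hI.1
  · exact el_eq (of_decide_eq_true h1)
  · exfalso
    have h2 := hI.2 (enc 8)
    rw [act_el, om_enc, if_pos h1] at h2
    exact one_ne_zero h2
  · exfalso
    rw [List.any_eq_true] at h1
    obtain ⟨i, -, hi⟩ := h1
    have h2 := h i
    unfold x at h2
    rw [← el_append, ← el_append] at h2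
    have h3 := tb_eq (fun c hc => by
      rw [List.mem_append] at hc
      rcases hc with hc | hc
      · exact xw_lt i c hc
      · exact flat_lt _ c hc) (fun c hc => by
      rw [List.mem_append] at hc
      rcases hc with hc | hc
      · exact flat_lt _ c hc
      · exact xw_lt i c hc) h2
    rw [decide_eq_true h3] at hi
    exact absurd hi (by decide)

theorem I_b : I (x 7) := by
  refine ⟨fun h => ?_, fun v => ?_⟩
  · have h1 := tb_eq (l := xw 7) (m := []) (xw_lt 7) (by simp) h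
    exact absurd h1 (by decide)
  · obtain ⟨c, hc, rfl⟩ := exists_enc v
    show om (enc c) (act (el (xw 7)) (enc c)) = 0
    rw [act_el, om_enc]
    have : ∀ c < 64, fN c (ap (xw 7) c) = false := by decide +kernel
    rw [this c hc]
    rfl

/-! ### the centralizer of `x 7` -/

/-- the plane `[V, b]` -/
def NL : Set V := {v | ∃ u, v = act (x 7) u + u}

/-- `C_V(b)` -/
def NM : Set V := {v | act (x 7) v = v}

theorem NL_coord : ∀ v ∈ NL, v (Sum.inl 2) = 0 ∧ v (Sum.inr 0) = 0 ∧ v (Sum.inr 1) = 0 ∧ v (Sum.inr 2) = 0 := by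
  rintro _ ⟨u, rfl⟩
  obtain ⟨c, hc, rfl⟩ := exists_enc u
  show (act (el (xw 7)) (enc c) + enc c) _ = 0 ∧ (act (el (xw 7)) (enc c) + enc c) _ = 0 ∧
    (act (el (xw 7)) (enc c) + enc c) _ = 0 ∧ (act (el (xw 7)) (enc c) + enc c) _ = 0
  rw [act_el, ← enc_xor]
  revert c
  decide +kernel

theorem NL_of : ∀ v : V, v (Sum.inl 2) = 0 → v (Sum.inr 0) = 0 → v (Sum.inr 1) = 0 → v (Sum.inr 2) = 0 → v ∈ NL := by
  intro v h1 h2 h3 h4
  obtain ⟨c, hc, rfl⟩ := exists_enc v
  have : ∀ c < 64, (enc c) (Sum.inl 2) = 0 → (enc c) (Sum.inr 0) = 0 → (enc c) (Sum.inr 1) = 0 →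
      (enc c) (Sum.inr 2) = 0 → ∃ d < 64, c = ap (xw 7) d ^^^ d := by decide +kernel
  obtain ⟨d, -, hd⟩ := this c hc h1 h2 h3 h4
  refine ⟨enc d, ?_⟩
  show _ = act (el (xw 7)) (enc d) + enc d
  rw [act_el, ← enc_xor, ← hd]

theorem NM_iff (v : V) : v ∈ NM ↔ v (Sum.inr 0) = 0 ∧ v (Sum.inr 1) = 0 := by
  obtain ⟨c, hc, rfl⟩ := exists_enc v
  have h1 : (enc c ∈ NM) ↔ ap (xw 7) c = c := by
    show act (el (xw 7)) (enc c) = enc c ↔ _
    rw [act_el]
    exact ⟨fun h => enc_inj _ (ap_lt _ (xw_lt 7) hc) _ hc h, fun h => by rw [h]⟩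
  rw [h1]
  clear h1
  revert c
  decide +kernel

/-- no elements of prime order `≥ 5` in the centralizer -/
theorem cent_five {p : ℕ} (hp : p.Prime) (h5 : 5 ≤ p) (g : S) (hg : g ^ p = 1) (hc : g * x 7 = x 7 * g) : g = 1 := by
  have h2 : ∀ v : V, v + v = 0 := add_self
  have hadd := act_add g
  have hf : ∀ v, (act g)^[p] v = v := by
    have key : ∀ k v, (act g)^[k] v = act (g ^ k) v := by
      intro k
      induction k with
      | zero => intro v; rw [pow_zero, act_one]; rfl
      | succ k ih => intro v; rw [Function.iterate_succ_apply', ih, pow_succ', act_mul]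
    intro v
    rw [key, hg, act_one]
  have h0 : act g 0 = 0 := by
    have h1 := act_add g 0 0
    rw [add_self, add_self] at h1
    exact h1
  have hcomm : ∀ v, act g (act (x 7) v) = act (x 7) (act g v) := fun v => by rw [← act_mul, hc, act_mul]
  have s1 : ∀ v ∈ NL, act g v = v := by
    refine lin_step h2 (act g) hadd hp h5 hf {0} NL ?_ ?_ (κ := ZMod 2 × ZMod 2) (by decide)
      (fun v => (v (Sum.inl 0), v (Sum.inl 1))) ?_
    · rintro _ ⟨u, rfl⟩
      exact ⟨act g u, by rw [hadd, hcomm]⟩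
    · rintro _ rfl; exact h0
    · intro m hm m' hm' he
      have e1 := NL_coord m hm
      have e2 := NL_coord m' hm'
      have e3 : m (Sum.inl 0) = m' (Sum.inl 0) := congrArg Prod.fst he
      have e4 : m (Sum.inl 1) = m' (Sum.inl 1) := congrArg Prod.snd he
      have e5 : m = m' := by
        funext i
        rcases i with i | i
        · fin_cases i
          · exact e3
          · exact e4
          · exact e1.1.trans e2.1.symm
        · fin_cases i
          · exact e1.2.1.trans e2.2.1.symm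
          · exact e1.2.2.1.trans e2.2.2.1.symm
          · exact e1.2.2.2.trans e2.2.2.2.symm
      rw [e5]
      exact h2 _
  have s2 : ∀ v ∈ NM, act g v = v := by
    refine lin_step h2 (act g) hadd hp h5 hf NL NM ?_ s1 (κ := ZMod 2 × ZMod 2) (by decide)
      (fun v => (v (Sum.inl 2), v (Sum.inr 2))) ?_
    · intro m hm
      show act (x 7) (act g m) = act g m
      rw [← hcomm, show act (x 7) m = m from hm]
    · intro m hm m' hm' he
      have e1 := (NM_iff m).1 hm
      have e2 := (NM_iff m').1 hm'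
      have e3 : m (Sum.inl 2) = m' (Sum.inl 2) := congrArg Prod.fst he
      have e4 : m (Sum.inr 2) = m' (Sum.inr 2) := congrArg Prod.snd he
      have e0 : ∀ a : ZMod 2, a + a = 0 := by decide
      refine NL_of _ ?_ ?_ ?_ ?_
      · show m _ + m' _ = 0
        rw [e3]; exact e0 _
      · show m _ + m' _ = 0
        rw [e1.1, e2.1]; exact e0 _
      · show m _ + m' _ = 0
        rw [e1.2, e2.2]; exact e0 _
      · show m _ + m' _ = 0
        rw [e4]; exact e0 _
  have s3 : ∀ v ∈ (Set.univ : Set V), act g v = v := by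
    refine lin_step h2 (act g) hadd hp h5 hf NM Set.univ (fun _ _ => Set.mem_univ _) s2 (κ := ZMod 2 × ZMod 2)
      (by decide) (fun v => (v (Sum.inr 0), v (Sum.inr 1))) ?_
    · intro m _ m' _ he
      have e3 : m (Sum.inr 0) = m' (Sum.inr 0) := congrArg Prod.fst he
      have e4 : m (Sum.inr 1) = m' (Sum.inr 1) := congrArg Prod.snd he
      have e0 : ∀ a : ZMod 2, a + a = 0 := by decide
      rw [NM_iff]
      refine ⟨?_, ?_⟩
      · show m _ + m' _ = 0
        rw [e3]; exact e0 _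
      · show m _ + m' _ = 0
        rw [e4]; exact e0 _
  apply act_ext
  intro v
  rw [s3 v (Set.mem_univ v), act_one]

theorem norm_of (g : List ℕ) (h : tb (g ++ xw 7) = tb (xw 7 ++ g) ∨ tb (g ++ xw 7) = tb (xw 5 ++ g) ∨
      tb (g ++ xw 7) = tb (xw 5 ++ xw 7 ++ g))
    (h2 : tb (g ++ xw 5) = tb (xw 7 ++ g) ∨ tb (g ++ xw 5) = tb (xw 5 ++ g) ∨
      tb (g ++ xw 5) = tb (xw 5 ++ xw 7 ++ g))
    (h3 : tb (g ++ (xw 5 ++ xw 7)) = tb (xw 7 ++ g) ∨ tb (g ++ (xw 5 ++ xw 7)) = tb (xw 5 ++ g) ∨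
      tb (g ++ (xw 5 ++ xw 7)) = tb (xw 5 ++ xw 7 ++ g)) :
    el g ∈ normalizer (VV (x 7) (x 5)) := by
  have key : ∀ a b : List ℕ, tb (g ++ a) = tb (b ++ g) → el g * el a = el b * el g := by
    intro a b h
    rw [← el_append, ← el_append]
    exact el_eq h
  show el g ∈ normalizer (VV (el (xw 7)) (el (xw 5)))
  refine mem_norm_VV ?_ ?_ ?_
  · rw [← el_append (xw 5) (xw 7)]
    rcases h with h | h | h
    · exact Or.inl (key _ _ h)
    · exact Or.inr (Or.inl (key _ _ h))
    · exact Or.inr (Or.inr (key _ _ h))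
  · rw [← el_append (xw 5) (xw 7)]
    rcases h2 with h | h | h
    · exact Or.inl (key _ _ h)
    · exact Or.inr (Or.inl (key _ _ h))
    · exact Or.inr (Or.inr (key _ _ h))
  · rw [← el_append (xw 5) (xw 7)]
    rcases h3 with h | h | h
    · exact Or.inl (key _ _ h)
    · exact Or.inr (Or.inl (key _ _ h))
    · exact Or.inr (Or.inr (key _ _ h))

theorem norm_chk : ∀ i : Fin 9, (tb (xw i ++ xw 7) = tb (xw 7 ++ xw i) ∨ tb (xw i ++ xw 7) = tb (xw 5 ++ xw i) ∨
      tb (xw i ++ xw 7) = tb (xw 5 ++ xw 7 ++ xw i)) ∧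
    (tb (xw i ++ xw 5) = tb (xw 7 ++ xw i) ∨ tb (xw i ++ xw 5) = tb (xw 5 ++ xw i) ∨
      tb (xw i ++ xw 5) = tb (xw 5 ++ xw 7 ++ xw i)) ∧
    (tb (xw i ++ (xw 5 ++ xw 7)) = tb (xw 7 ++ xw i) ∨ tb (xw i ++ (xw 5 ++ xw 7)) = tb (xw 5 ++ xw i) ∨
      tb (xw i ++ (xw 5 ++ xw 7)) = tb (xw 5 ++ xw 7 ++ xw i)) := by
  decide +kernel

theorem card : Nat.card S = 1451520 := card_S

theorem not_dvd : ¬ 2 ^ (9 + 1) ∣ Nat.card S := by
  rw [card]; decide

/-- `Sp₆(2)` is a `π`-group -/
theorem good {π : Set ℕ} (h2 : 2 ∈ π) (h3 : 3 ∈ π) : Good π S := by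
  intro hd
  have hC : IsPiSubgroup π (centralizer ({x 7} : Set S)) :=
    isPi_of_five h2 h3 fun p hp h5 g hg hgp => cent_five hp h5 g hgp (mem_centralizer_singleton_iff.1 hg)
  have hcc : ∀ i, tb (xw i ++ xw 7) = tb (xw 7 ++ xw i) := by decide +kernel
  have hcz : ∀ i, x i * x 7 = x 7 * x i := fun i => by
    show el _ * el _ = el _ * el _
    rw [← el_append, ← el_append]
    exact el_eq (hcc i)
  obtain ⟨H, hH, hU⟩ := exists_H P_ok sat nf_x not_dvd I I_conj I_b (subset_closure ⟨7, rfl⟩) hcz cen_x hC hd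
  have hHC := hU _ hC fun i => mem_centralizer_singleton_iff.2 (hcz i)
  have hH1 := hU _ (isPi_normalizer h2 h3 (v := x 5) hC) fun i =>
    norm_of (xw i) (norm_chk i).1 (norm_chk i).2.1 (norm_chk i).2.2
  have m1 : el [32] ∈ H := hHC (mem_centralizer_singleton_iff.2 (by
    show el _ * el _ = el _ * el _
    rw [← el_append, ← el_append]
    exact el_eq (by decide +kernel)))
  have m2 : el [2, 8, 10] ∈ H := hHC (mem_centralizer_singleton_iff.2 (by
    show el _ * el _ = el _ * el _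
    rw [← el_append, ← el_append]
    exact el_eq (by decide +kernel)))
  have m3 : el [4, 16, 20] ∈ H := hH1 (norm_of _ (by decide +kernel) (by decide +kernel) (by decide +kernel))
  have mx : ∀ i, el (xw i) ∈ H := fun i => hHC (mem_centralizer_singleton_iff.2 (hcz i))
  have p5 : 5 ∈ π := by
    refine mem_pi_of hH.pi (by norm_num) (mul_mem (mul_mem (mul_mem m1 m3) (mx 2)) (mx 1)) ?_ fun h => ?_
    · rw [← el_append, ← el_append, ← el_append, el_pow, ← el_nil]
      exact el_eq (by decide +kernel)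
    · rw [← el_append, ← el_append, ← el_append, ← el_nil] at h
      exact absurd (tb_eq (by decide +kernel) (by simp) h) (by decide +kernel)
  have p7 : 7 ∈ π := by
    refine mem_pi_of hH.pi (by norm_num) (mul_mem (mul_mem (mul_mem m2 m3) (mx 1)) (mx 0)) ?_ fun h => ?_
    · rw [← el_append, ← el_append, ← el_append, el_pow, ← el_nil]
      exact el_eq (by decide +kernel)
    · rw [← el_append, ← el_append, ← el_append, ← el_nil] at h
      exact absurd (tb_eq (by decide +kernel) (by simp) h) (by decide +kernel)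
  intro p hp hpd
  rw [card, show (1451520 : ℕ) = 2 ^ 9 * 3 ^ 4 * 5 * 7 by norm_num] at hpd
  rcases (Nat.Prime.dvd_mul hp).1 hpd with h | h
  · rcases (Nat.Prime.dvd_mul hp).1 h with h | h
    · rcases (Nat.Prime.dvd_mul hp).1 h with h | h
      · rw [(Nat.prime_dvd_prime_iff_eq hp Nat.prime_two).1 (hp.dvd_of_dvd_pow h)]; exact h2
      · rw [(Nat.prime_dvd_prime_iff_eq hp Nat.prime_three).1 (hp.dvd_of_dvd_pow h)]; exact h3
    · rw [(Nat.prime_dvd_prime_iff_eq hp (by norm_num)).1 h]; exact p5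
  · rw [(Nat.prime_dvd_prime_iff_eq hp (by norm_num)).1 h]; exact p7

end SpSix

end Cfsg.Agent.H861.PiS
end

-- part: H861/PiS/CoTwoRow
section
/-!
# S3876: the Conway group `Co₂`, `2, 3 ∈ π` (helper861)
-/

set_option autoImplicit false
set_option maxRecDepth 100000

namespace Cfsg.Agent.H861.PiS.CoTwoRow

open Cfsg Subgroup
open Cfsg.Agent.H841.PiBS Cfsg.Agent.H543.PiBS
open Cfsg.Agent.Co2Type.Mono Cfsg.Agent.Co2Type.TData Cfsg.Agent.Co2Type.TGroup Cfsg.Agent.Co2Type.FactsD
open Cfsg.Agent.KFacts.CoTwo.RSub Cfsg.Agent.KFacts.CoTwo.RLarge Cfsg.Agent.KFacts.Co2.T1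
open Cfsg.Agent.KFacts.CoTwo Cfsg.Agent.SporadicStructure.M24El Cfsg.Agent.SporadicA.GolayPerm
  Cfsg.Agent.SporadicA.Co0Mono
open Cfsg.Agent.KFacts.CoTwo.RIrr (conj_ge')

/-- the five complements of octads -/
def M5 : List ℕ := [8101306, 5930970, 6946666, 3406834, 8120056]

def uQ : ℕ := 966630983650157412946098429213641024
def cQ : ℕ := 969224839722636323790040143230996000
def mt : ℕ := 7337022
def m1 : ℕ := 8120056
def m2 : ℕ := 3005942

theorem chkM5 : (M5.all fun m => inE m) = true := by decide +kernel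
theorem chkT5 : (L22.all fun P => M5.all fun m => memL (pimg P m) M5) = true := by decide +kernel
theorem chku5 : (M5.all fun m => memL (pimg uQ m) M5) = true := by decide +kernel
theorem ou : okP uQ = true := by decide +kernel
theorem oc : okP cQ = true := by decide +kernel
theorem lu : uQ < 2 ^ 120 := by decide +kernel
theorem lc : cQ < 2 ^ 120 := by decide +kernel
theorem i1 : inE m1 = true := by decide +kernel
theorem i2 : inE m2 = true := by decide +kernel
theorem u1 : pimg uQ mz = m1 := by decide +kernel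
theorem c0 : pimg cQ mz = mz := by decide +kernel
theorem c1 : pimg cQ m1 = m2 := by decide +kernel
theorem u2 : pimg uQ m2 = mt := by decide +kernel
theorem rt : pimg rQ mw = mt := by decide +kernel

noncomputable def M : Finset Spor.Co2 := by
  classical
  exact (M5.map ge).toFinset

theorem mem_M {x : Spor.Co2} : x ∈ M ↔ ∃ m ∈ M5, ge m = x := by
  classical
  unfold M
  rw [List.mem_toFinset, List.mem_map]

theorem card_M : M.card ≤ 5 := by
  classical
  unfold M
  exact (List.toFinset_card_le _).trans (by rw [List.length_map]; decide)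

theorem inE_of {m : ℕ} (h : m ∈ M5) : inE m = true := List.all_eq_true.1 chkM5 m h

theorem mz_mem5 : mz ∈ M5 := by decide

theorem good {π : Set ℕ} (h2 : 2 ∈ π) (h3 : 3 ∈ π) : Good π Spor.Co2 := by
  intro hd
  have hfin := Cfsg.Agent.Schreier.CoTwoStab.finite
  obtain ⟨f, hf, hker⟩ := QuotInst.dataT.quot
  have hTz : ∀ t ∈ (Cfsg.Agent.Co2Type.FactsClass.TSyl : Subgroup Spor.Co2), t * ge mz = ge mz * t := z_comm
  have hC : IsPiSubgroup π (centralizer ({ge mz} : Set Spor.Co2)) :=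
    isPi_centralizer h2 large Cfsg.Agent.Co2Type.FactsClass.TSyl hTz hf (fun c hc => (hker c).1 hc) (SpSix.good h2 h3) hd
  have hNT := normalizer_le large Cfsg.Agent.Co2Type.FactsClass.TSyl hTz
  obtain ⟨H, hH, hU⟩ := hd.exists_ge Cfsg.Agent.Co2Type.FactsClass.TSyl (isPi_of_le hC hNT)
  have hTle : (Cfsg.Agent.Co2Type.FactsClass.TSyl : Subgroup Spor.Co2) ≤ centralizer ({ge mz} : Set Spor.Co2) :=
    fun t ht => mem_centralizer_singleton_iff.2 (hTz t ht)
  have hHC := hU _ hC hTle
  -- the primes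
  have h5 : 5 ∈ π := by
    refine hC 5 (by norm_num) ?_
    have h4 : Nat.card Quot.Sp62 ∣ Nat.card (centralizer ({ge mz} : Set Spor.Co2)) := by
      exact Subgroup.card_dvd_of_surjective f hf
    refine dvd_trans ?_ h4
    rw [show Nat.card Quot.Sp62 = 1451520 from Cfsg.Agent.SporRec.TwoSp6.Sp.card_S]
    norm_num
  have hM : IsPiSubgroup π (normalizer (M : Set Spor.Co2)) := by
    refine isPi_normalizer_fin M (z := ge mz) (mem_M.2 ⟨mz, mz_mem5, rfl⟩) hC fun p hp hpi => ?_
    refine lt_of_le_of_lt card_M ?_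
    have e2 : p ≠ 2 := by rintro rfl; exact hpi h2
    have e3 : p ≠ 3 := by rintro rfl; exact hpi h3
    have e5 : p ≠ 5 := by rintro rfl; exact hpi h5
    have e4 : p ≠ 4 := by rintro rfl; exact absurd hp (by decide)
    have := hp.two_le
    omega
  have hTM : (Cfsg.Agent.Co2Type.FactsClass.TSyl : Subgroup Spor.Co2) ≤ normalizer (M : Set Spor.Co2) := by
    intro t ht
    have ht' : t ∈ T := ht
    refine mem_norm_fin (Finset.finite_toSet M) fun x hx => ?_
    obtain ⟨n, P, hn, hP, rfl⟩ := ht'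
    obtain ⟨m, hm, rfl⟩ := mem_M.1 hx
    rw [conj_ge' hn (inE_of hm) hP]
    have h4 : memL (pimg P m) M5 = true := List.all_eq_true.1 (List.all_eq_true.1 chkT5 P hP) m hm
    have h5 : pimg P m ∈ M5 := memL_iff.1 h4
    exact mem_M.2 ⟨_, h5, rfl⟩
  have hHM := hU _ hM hTM
  have mu : mo2 0 uQ ∈ H := by
    refine hHM (mem_norm_fin (Finset.finite_toSet M) fun x hx => ?_)
    obtain ⟨m, hm, rfl⟩ := mem_M.1 hx
    rw [conj_ge ou lu (inE_of hm) rfl]
    have h4 : memL (pimg uQ m) M5 = true := List.all_eq_true.1 chku5 m hm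
    have h5 : pimg uQ m ∈ M5 := memL_iff.1 h4
    exact mem_M.2 ⟨_, h5, rfl⟩
  have mc : mo2 0 cQ ∈ H := by
    refine hHC (mem_centralizer_singleton_iff.2 ?_)
    have h4 := conj_ge oc lc iz c0
    calc mo2 0 cQ * ge mz = mo2 0 cQ * ge mz * (mo2 0 cQ)⁻¹ * mo2 0 cQ := by group
      _ = ge mz * mo2 0 cQ := by rw [h4]
  have mw' := mul_mem (mul_mem mu mc) mu
  have hw : mo2 0 uQ * mo2 0 cQ * mo2 0 uQ * ge mz * (mo2 0 uQ * mo2 0 cQ * mo2 0 uQ)⁻¹ = ge mt := by
    have e1 := conj_ge ou lu iz u1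
    have e2 := conj_ge oc lc i1 c1
    have e3 := conj_ge ou lu i2 u2
    calc mo2 0 uQ * mo2 0 cQ * mo2 0 uQ * ge mz * (mo2 0 uQ * mo2 0 cQ * mo2 0 uQ)⁻¹
        = mo2 0 uQ * (mo2 0 cQ * (mo2 0 uQ * ge mz * (mo2 0 uQ)⁻¹) * (mo2 0 cQ)⁻¹) * (mo2 0 uQ)⁻¹ := by group
      _ = ge mt := by rw [e1, e2, e3]
  have hr := r_i
  have hrn : mo2 0 rQ * n * (mo2 0 rQ)⁻¹ * ge mz * (mo2 0 rQ * n * (mo2 0 rQ)⁻¹)⁻¹ = ge mt := by
    have e1 := conj_ge or' lr iw rt
    have e2 : (mo2 0 rQ)⁻¹ * ge mz * mo2 0 rQ = ge mi := by rw [← hr]; group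
    calc mo2 0 rQ * n * (mo2 0 rQ)⁻¹ * ge mz * (mo2 0 rQ * n * (mo2 0 rQ)⁻¹)⁻¹
        = mo2 0 rQ * (n * ((mo2 0 rQ)⁻¹ * ge mz * mo2 0 rQ) * n⁻¹) * (mo2 0 rQ)⁻¹ := by group
      _ = ge mt := by rw [e2, n_i, e1]
  have mrn : mo2 0 rQ * n * (mo2 0 rQ)⁻¹ ∈ H := by
    obtain ⟨w, hw'⟩ : ∃ w, w = mo2 0 uQ * mo2 0 cQ * mo2 0 uQ := ⟨_, rfl⟩
    obtain ⟨k, hk⟩ : ∃ k, k = mo2 0 rQ * n * (mo2 0 rQ)⁻¹ := ⟨_, rfl⟩
    rw [← hw'] at mw' hw
    rw [← hk] at hrn ⊢
    have h4 : w⁻¹ * k ∈ centralizer ({ge mz} : Set Spor.Co2) := by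
      rw [mem_centralizer_singleton_iff]
      have h5 : k * ge mz = ge mt * k := by rw [← hrn]; group
      have h6 : w⁻¹ * ge mt = ge mz * w⁻¹ := by rw [← hw]; group
      calc w⁻¹ * k * ge mz = w⁻¹ * (k * ge mz) := by group
        _ = (w⁻¹ * ge mt) * k := by rw [h5]; group
        _ = ge mz * (w⁻¹ * k) := by rw [h6]; group
    have h5 := mul_mem mw' (hHC h4)
    rwa [mul_inv_cancel_left] at h5
  -- generation
  refine pg_of_top hH.pi ?_
  have hmap : (H.map (MulAut.conj (mo2 0 rQ)⁻¹).toMonoidHom) = ⊤ := by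
    rw [eq_top_iff, ← gen, closure_le]
    rintro x (hx | rfl)
    · show x ∈ H.map (MulAut.conj (mo2 0 rQ)⁻¹).toMonoidHom
      rw [mem_map_conj, inv_inv]
      refine hHC (mem_centralizer_singleton_iff.2 ?_)
      have hx' : x * ge mi = ge mi * x := hx
      calc mo2 0 rQ * x * (mo2 0 rQ)⁻¹ * ge mz = mo2 0 rQ * x * (mo2 0 rQ)⁻¹ * (mo2 0 rQ * ge mi * (mo2 0 rQ)⁻¹) := by rw [hr]
        _ = mo2 0 rQ * (x * ge mi) * (mo2 0 rQ)⁻¹ := by group
        _ = (mo2 0 rQ * ge mi * (mo2 0 rQ)⁻¹) * (mo2 0 rQ * x * (mo2 0 rQ)⁻¹) := by rw [hx']; group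
        _ = ge mz * (mo2 0 rQ * x * (mo2 0 rQ)⁻¹) := by rw [hr]
    · show n ∈ H.map (MulAut.conj (mo2 0 rQ)⁻¹).toMonoidHom
      rw [mem_map_conj, inv_inv]
      exact mrn
  rw [eq_top_iff]
  intro x _
  have h6 : (mo2 0 rQ)⁻¹ * x * mo2 0 rQ ∈ H.map (MulAut.conj (mo2 0 rQ)⁻¹).toMonoidHom := by
    rw [hmap]; exact mem_top _
  rw [mem_map_conj, inv_inv] at h6
  have e : mo2 0 rQ * ((mo2 0 rQ)⁻¹ * x * mo2 0 rQ) * (mo2 0 rQ)⁻¹ = x := by group
  rwa [e] at h6

theorem row_Co2 {S : Type*} [Group S] [Finite S] (h : Cfsg.Spor.IsoCo2 S) {π : Set ℕ} (h2 : 2 ∈ π) (h3 : 3 ∈ π)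
    (hD : DC π S) : PiGrp π S := by
  obtain ⟨e⟩ := h
  have hfin := Cfsg.Agent.Schreier.CoTwoStab.finite
  exact row_of_good (Good.congr e (good h2 h3)) h2 hD

end Cfsg.Agent.H861.PiS.CoTwoRow
end

-- part: H861/PiS/BabyRow
section
/-!
# S3876: the Baby Monster, `2, 3 ∈ π` (helper861)
-/

set_option autoImplicit false

namespace Cfsg.Agent.H861.PiS.BabyRow

open Cfsg Subgroup
open Cfsg.Agent.H841.PiBS Cfsg.Agent.H543.PiBS
open Cfsg.Agent.Monster Cfsg.Agent.Monster.VecEngine Cfsg.Agent.Monster.VecSpace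
open Cfsg.Agent.BabyM Cfsg.Agent.BabyM.Model Cfsg.Agent.BabyM.Conc Cfsg.Agent.BabyM.KTab Cfsg.Agent.BabyM.Co2GenStd
open Cfsg.Agent.BabyU.ClosModel
open Cfsg.Agent.BabyU.ClosLane (A)
open Cfsg.Agent.KFacts.Baby.Inst (large quot odd_index mem_cen z'_eq)
open Cfsg.Agent.H861.PiS.BabyOrb

theorem good_co2 {π : Set ℕ} (h2 : 2 ∈ π) (h3 : 3 ∈ π) : Good π GroupInst.K₀ := by
  obtain ⟨e⟩ := Cfsg.Agent.Schreier.CoTwoStab.exists_equiv l₀ GroupInst.dt_l₀
  have hfin := Cfsg.Agent.Schreier.CoTwoStab.finite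
  have hfin' : Finite GroupInst.K₀ := Finite.of_equiv _ e.symm.toEquiv
  exact Good.congr e (CoTwoRow.good h2 h3)

theorem good {π : Set ℕ} (h2 : 2 ∈ π) (h3 : 3 ∈ π) : Good π Inst.M.G := by
  have hfin := A.finite_G
  obtain ⟨f, hf, hker⟩ := quot A
  have hodd := odd_index A
  obtain ⟨T, hT⟩ := exists_sylow_le (K := centralizer ({zz A} : Set Inst.M.G)) hodd.not_two_dvd_nat
  let T' : Subgroup Inst.M.C := (T : Subgroup Inst.M.G).comap (Subgroup.inclusion A.C_le_G)
  have hT' : IsPGroup 2 T' := T.isPGroup'.comap_of_injective _ (Subgroup.inclusion_injective _)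
  obtain ⟨g, hg⟩ := exists_pairB T' hT'
  have hgG : (g : V ≃ₗ[ℚ] V) ∈ Inst.M.G := A.C_le_G g.2
  have hτ : Inst.M.τ ∈ Inst.M.G := A.τ_mem_G
  obtain ⟨n, hn⟩ : ∃ n : Inst.M.G, n = ⟨g, hgG⟩ * ⟨Inst.M.τ, hτ⟩ := ⟨_, rfl⟩
  have hnz : ((n * zz A * n⁻¹ : Inst.M.G) : V ≃ₗ[ℚ] V) = g * Cd.R xc * (g : V ≃ₗ[ℚ] V)⁻¹ := by
    rw [hn]
    show (g : V ≃ₗ[ℚ] V) * Inst.M.τ * Inst.M.z * ((g : V ≃ₗ[ℚ] V) * Inst.M.τ)⁻¹ = _
    have h := z'_eq
    have h' : Cd.R xc = Inst.M.τ * Inst.M.z * Inst.M.τ⁻¹ := h.symm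
    rw [h']
    group
  have hTz : ∀ t ∈ (T : Subgroup Inst.M.G), t * zz A = zz A * t := fun t ht =>
    mem_centralizer_singleton_iff.1 (hT ht)
  refine good_of_large h2 h3 (large A) T hTz hf (fun c hc => (hker c).1 hc) (good_co2 h2 h3) (n := n) ?_ ?_ ?_ ?_
  · rw [mem_PP, hnz, al_spec]
    exact Cfsg.Agent.BabyU.ClosLane.R_mem_Q _
  · intro h
    apply A.orb.τ_z_ne
    have h1 : (⟨g, hgG⟩ : Inst.M.G)⁻¹ * (n * zz A * n⁻¹) * ⟨g, hgG⟩ = ⟨Inst.M.τ, hτ⟩ * zz A * (⟨Inst.M.τ, hτ⟩)⁻¹ := by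
      rw [hn]; group
    have h4 : (g : V ≃ₗ[ℚ] V) * Inst.M.z = Inst.M.z * g := A.grp.z_comm g g.2
    have h5 : (⟨g, hgG⟩ : Inst.M.G)⁻¹ * zz A * ⟨g, hgG⟩ = zz A := by
      have h6 : (⟨g, hgG⟩ : Inst.M.G) * zz A = zz A * ⟨g, hgG⟩ := Subtype.ext h4
      rw [mul_assoc, ← h6]; group
    rw [h, h5] at h1
    exact (congrArg Subtype.val h1).symm
  · intro t ht
    have htC : (t : V ≃ₗ[ℚ] V) ∈ Inst.M.C := (mem_cen A).1 (hT ht)
    have h1 := hg ⟨t, htC⟩ (by
      show Subgroup.inclusion A.C_le_G ⟨t, htC⟩ ∈ (T : Subgroup Inst.M.G)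
      exact ht)
    refine h1.imp (fun h => Subtype.ext ?_) (fun h => Subtype.ext ?_)
    · show (t : V ≃ₗ[ℚ] V) * ((n * zz A * n⁻¹ : Inst.M.G) : V ≃ₗ[ℚ] V) * (t : V ≃ₗ[ℚ] V)⁻¹ = _
      rw [hnz]; exact h
    · show (t : V ≃ₗ[ℚ] V) * ((n * zz A * n⁻¹ : Inst.M.G) : V ≃ₗ[ℚ] V) * (t : V ≃ₗ[ℚ] V)⁻¹ =
        ((n * zz A * n⁻¹ : Inst.M.G) : V ≃ₗ[ℚ] V) * Inst.M.z
      rw [hnz]; exact h
  · -- generation
    rw [eq_top_iff]
    set N := Subgroup.closure ({c : Inst.M.G | c * zz A = zz A * c} ∪ {n}) with hN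
    have hgN : (⟨g, hgG⟩ : Inst.M.G) ∈ N := subset_closure (Or.inl (Subtype.ext (A.grp.z_comm g g.2)))
    have hτN : (⟨Inst.M.τ, hτ⟩ : Inst.M.G) ∈ N := by
      have h1 : n ∈ N := subset_closure (Or.inr rfl)
      have h2 := mul_mem (inv_mem hgN) h1
      rw [hn, inv_mul_cancel_left] at h2
      exact h2
    have h1 : Inst.M.G ≤ N.map Inst.M.G.subtype := by
      show Subgroup.closure _ ≤ _
      rw [Subgroup.closure_le]
      rintro x (hx | hx)
      · refine ⟨⟨x, A.C_le_G hx⟩, Subgroup.subset_closure (Or.inl ?_), rfl⟩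
        exact Subtype.ext (A.grp.z_comm x hx)
      · rw [Set.mem_singleton_iff] at hx
        subst hx
        exact ⟨⟨Inst.M.τ, A.τ_mem_G⟩, hτN, rfl⟩
    rintro ⟨x, hx⟩ _
    obtain ⟨m, hm, e⟩ := h1 hx
    have : m = ⟨x, hx⟩ := Subtype.ext e
    rwa [this] at hm

theorem row_B {S : Type*} [Group S] [Finite S] (h : Cfsg.Spor.IsoB S) {π : Set ℕ} (h2 : 2 ∈ π) (h3 : 3 ∈ π)
    (hD : DC π S) : PiGrp π S := by
  obtain ⟨e⟩ := Cfsg.Agent.KFacts.Baby.RowB.exists_iso h
  have hfin := A.finite_G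
  exact row_of_good (Good.congr e.symm (good h2 h3)) h2 hD

end Cfsg.Agent.H861.PiS.BabyRow
end
end

-- part: H861/PiS/CoOneRow
section
set_option linter.all false
open scoped Cfsg.Agent.FastGrp

-- part: H861/PiS/MonRow
section
/-!
# S3876: the Monster, `2, 3 ∈ π` (helper861)
-/

set_option autoImplicit false

namespace Cfsg.Agent.H861.PiS.MonRow

open Cfsg Subgroup
open Cfsg.Agent.H841.PiBS Cfsg.Agent.H543.PiBS
open Cfsg.Agent.MonsterU Cfsg.Agent.MonsterU.Ch
open Cfsg.Agent.MonsterU.Lam2 (L2 IsType)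
open Cfsg.Spor (Co1)

section chart

variable {G : Type*} [Group G] [Finite G] {Q : Subgroup G} {z : G} {eta : G → L2}
  {pi : Subgroup.centralizer ({z} : Set G) →* Co1}

omit [Finite G] in
/-- the classes of type four -/
def Four : SubMulAction Co1 L2 where
  carrier := {x | IsType 4 x}
  smul_mem' g _ hx := IsType.smul1 hx g

/-- a 2-subgroup of `Co₁` fixes a class of type four -/
theorem exists_fixed (P : Subgroup Co1) (hP : IsPGroup 2 P) : ∃ x : L2, IsType 4 x ∧ ∀ g ∈ P, g • x = x := by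
  have hf : Fact (Nat.Prime 2) := ⟨Nat.prime_two⟩
  have hc : Nat.card Four = 8292375 := Cfsg.Agent.ConwayFacts.NormL2.ncard_four
  have hfX : Finite Four := Nat.finite_of_card_ne_zero (by rw [hc]; norm_num)
  obtain ⟨x, hx⟩ := hP.nonempty_fixed_point_of_prime_not_dvd_card Four (by rw [hc]; norm_num)
  exact ⟨x, x.2, fun g hg => congrArg Subtype.val (hx ⟨g, hg⟩)⟩

/-- **Groups with a chart.** -/
theorem good_of_chart [IsSimpleGroup G] (h : Chart Q z eta pi)
    (hodd : Odd (Subgroup.centralizer ({z} : Set G)).index)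
    (hgen : ∃ n₀ : G, n₀ * z * n₀⁻¹ ∈ Q ∧ n₀ * z * n₀⁻¹ ≠ z ∧
      Subgroup.closure ({c : G | c * z = z * c} ∪ {n₀}) = ⊤) {π : Set ℕ} (h2 : 2 ∈ π) (h3 : 3 ∈ π)
    (hL : Good π Co1) : Good π G := by
  obtain ⟨T, hT⟩ := exists_sylow_le (K := centralizer ({z} : Set G)) hodd.not_two_dvd_nat
  have hTz : ∀ t ∈ (T : Subgroup G), t * z = z * t := fun t ht => mem_centralizer_singleton_iff.1 (hT ht)
  have hP : IsPGroup 2 (((T : Subgroup G).subgroupOf (centralizer ({z} : Set G))).map pi) :=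
    (T.isPGroup'.comap_of_injective _ (subtype_injective _)).map _
  obtain ⟨x, hx4, hx⟩ := exists_fixed _ hP
  obtain ⟨n₀, hn1, hn2, hn3⟩ := hgen
  have h4 := Fused.type_four_of_conj h hn1 hn2
  obtain ⟨s, hs⟩ := AmalSideOf.exists_smul_f0 h4
  obtain ⟨t, ht⟩ := AmalSideOf.exists_smul_f0 hx4
  obtain ⟨c, hc⟩ := h.pi_surj (t⁻¹ * s)
  have hcz : (c : G) * z = z * c := mem_centralizer_singleton_iff.1 c.2
  have e : (c : G) * n₀ * z * ((c : G) * n₀)⁻¹ = (c : G) * (n₀ * z * n₀⁻¹) * (c : G)⁻¹ := by group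
  have hvQ : (c : G) * (n₀ * z * n₀⁻¹) * (c : G)⁻¹ ∈ Q := h.large.conj_mem _ hcz _ hn1
  have hev : eta ((c : G) * (n₀ * z * n₀⁻¹) * (c : G)⁻¹) = x := by
    rw [h.eta_conj c _ hn1, hc, mul_smul, hs, ← ht, inv_smul_smul]
  refine good_of_large h2 h3 h.large T hTz h.pi_surj (fun d hd => (h.pi_eq_one d).1 hd) hL (n := (c : G) * n₀)
    (by rw [e]; exact hvQ) ?_ ?_ ?_
  · rw [e]
    intro h5
    apply hn2
    calc n₀ * z * n₀⁻¹ = (c : G)⁻¹ * ((c : G) * (n₀ * z * n₀⁻¹) * (c : G)⁻¹) * c := by group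
      _ = (c : G)⁻¹ * (z * c) := by rw [h5]; group
      _ = z := by rw [← hcz]; group
  · rw [e]
    intro u hu
    have huC : u ∈ centralizer ({z} : Set G) := hT hu
    have h5 : u * ((c : G) * (n₀ * z * n₀⁻¹) * (c : G)⁻¹) * u⁻¹ ∈ Q :=
      h.large.conj_mem _ (hTz u hu) _ hvQ
    refine (h.eta_eq h5 hvQ).1 ?_
    rw [h.eta_conj ⟨u, huC⟩ _ hvQ, hev]
    exact hx _ ⟨⟨u, huC⟩, mem_subgroupOf.2 hu, rfl⟩
  · rw [eq_top_iff, ← hn3, closure_le]
    rintro y (hy | rfl)
    · exact subset_closure (Or.inl hy)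
    · have m1 : (c : G) ∈ closure ({d : G | d * z = z * d} ∪ {(c : G) * y}) := subset_closure (Or.inl hcz)
      have m2 : (c : G) * y ∈ closure ({d : G | d * z = z * d} ∪ {(c : G) * y}) := subset_closure (Or.inr rfl)
      have m3 := mul_mem (inv_mem m1) m2
      rwa [inv_mul_cancel_left] at m3

end chart

section model

open Cfsg.Agent.MonsterX.Model Cfsg.Agent.MonsterX.MainSimple Cfsg.Agent.MonsterX.MainBasic

variable {W : Type} [AddCommGroup W] [Module ℚ W] {M : MData W}

/-- the group of the model -/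
theorem good_model (hG : MGroup M Co1) (hR : MRep M) (hL : MLat M) (hO : MOrbit M) (hT : MTrans M)
    {π : Set ℕ} (h2 : 2 ∈ π) (h3 : 3 ∈ π) (hLG : Good π Co1) : Good π M.G := by
  have hfin := G_finite hO
  have hsimp := isSimple hG hR hL hO hT
  have hco := Cfsg.Agent.KFacts.MonsterE.simple_Co1
  obtain ⟨_, D⟩ := Cfsg.Agent.KFacts.MonsterE.data_model hG hR hL hO hT
  obtain ⟨eta, pi, h⟩ := ModelChart.chart hG hR hL hO hT
  exact good_of_chart h D.odd D.gen h2 h3 hLG

end model

theorem row_M {S : Type*} [Group S] [Finite S] (h : Cfsg.Spor.IsoM S) {π : Set ℕ} (h2 : 2 ∈ π) (h3 : 3 ∈ π)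
    (hLG : Good π Co1) (hD : DC π S) : PiGrp π S := by
  have A := Cfsg.Agent.MonsterU.Uncond.all
  obtain ⟨e⟩ := Cfsg.Agent.MonsterP.Equiv.equiv
  have hf := Cfsg.Agent.MonsterX.MainBasic.G_finite A.hO
  obtain ⟨f⟩ := h
  exact row_of_good (Good.congr (f.trans e) (good_model A.hG A.hR A.hL A.hO A.hT h2 h3 hLG)) h2 hD

end Cfsg.Agent.H861.PiS.MonRow
end

-- part: H861/PiS/CoOneRow
section
/-!
# S3876: the Conway group `Co₁` and the Monster, `2, 3 ∈ π` (helper861)

`F = 2^11 : M₂₄` and `C(z) = 2^{1+8}.Ω₈⁺(2)`; an element of order 13 of `C(z)` would lie in `F`.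
-/

set_option autoImplicit false

namespace Cfsg.Agent.H861.PiS.CoOneRow

open Cfsg Subgroup
open Cfsg.Agent.H841.PiBS Cfsg.Agent.H543.PiBS
open Cfsg.Agent.SporadicA.Co0Mono hiding smul_add smul_sub smul_neg smul_zero
open Cfsg.Agent.SporadicA.Co1Simple
open Cfsg.Agent.CoOneType
open Cfsg.Agent.CoOneType.CoOneE (pr pr_surjective E mem_E)
open Cfsg.Agent.CoOneType.SignFacts (sup mem_sup notMem_sup wt)
open Cfsg.Agent.CoOneType.CentOctad (C0 mem_C0 xi_mem)
open Cfsg.Agent.SporadicStructure.Co0Base (e8 e8_coe)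
open Cfsg.Agent.MonsterU.Lam2 (L2 cl cl_surjective cl_two)
open Cfsg.Agent.MonsterU.CoFrameL2 (f0)
open Cfsg.Spor (Co1)

/-- elements of order 13 act trivially on small sections -/
theorem fixed_thirteen {g : Co0} (h13 : g ^ 13 = 1) (U : AddSubgroup L2) (hU : ∀ x ∈ U, g • x ∈ U) {r : ℕ}
    (hr : r ≤ 11) (hc : Nat.card U ∣ 2 ^ r) : ∀ x ∈ U, g • x = x := by
  classical
  have hf : Fact (Nat.Prime 13) := ⟨by norm_num⟩
  have hft : Fintype U := Fintype.ofFinite U
  let f : Function.End U := fun x => ⟨g • (x : L2), hU x x.2⟩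
  have hpow : ∀ k : ℕ, ∀ x : U, ((f ^ k) x : L2) = g ^ k • (x : L2) := by
    intro k
    induction k with
    | zero => intro x; rw [pow_zero, pow_zero, one_smul]; rfl
    | succ k ih =>
      intro x
      rw [pow_succ', pow_succ', mul_smul]
      show g • ((f ^ k) x : L2) = _
      rw [ih]
  have hf13 : f ^ 13 ^ 1 = 1 := by
    funext x
    apply Subtype.ext
    rw [pow_one, hpow, h13, one_smul]
    rfl
  have hmod := Equiv.Perm.card_fixedPoints_modEq hf13
  let B : AddSubgroup L2 :=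
    { carrier := {x | x ∈ U ∧ g • x = x}
      add_mem' := fun {a b} ha hb => ⟨U.add_mem ha.1 hb.1, by rw [smul_add, ha.2, hb.2]⟩
      zero_mem' := ⟨U.zero_mem, smul_zero g⟩
      neg_mem' := fun {a} ha => ⟨U.neg_mem ha.1, by rw [smul_neg, ha.2]⟩ }
  have hBU : B ≤ U := fun x hx => hx.1
  have hBc : Nat.card B = Fintype.card (Function.fixedPoints f) := by
    rw [← Nat.card_eq_fintype_card]
    refine Nat.card_congr ⟨fun x => ⟨⟨x, x.2.1⟩, Subtype.ext x.2.2⟩, fun x => ⟨x.1, x.1.2, congrArg Subtype.val x.2⟩,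
      fun x => rfl, fun x => rfl⟩
  rw [← hBc, ← Nat.card_eq_fintype_card] at hmod
  obtain ⟨a, ha, ha'⟩ := (Nat.dvd_prime_pow Nat.prime_two).1 hc
  obtain ⟨b, hb, hb'⟩ := (Nat.dvd_prime_pow Nat.prime_two).1 ((AddSubgroup.card_dvd_of_le hBU).trans hc)
  have hle : b ≤ a := by
    have h1 := AddSubgroup.card_dvd_of_le hBU
    rw [ha', hb'] at h1
    exact (Nat.pow_dvd_pow_iff_le_right (by norm_num)).1 h1
  rw [ha', hb'] at hmod
  have hab : a = b := by
    have key : ∀ a ≤ 11, ∀ b ≤ a, 2 ^ a % 13 = 2 ^ b % 13 → a = b := by decide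
    exact key a (by omega) b hle hmod
  have hBeq : B = U := by
    refine AddSubgroup.eq_of_le_of_card_ge hBU ?_
    rw [ha', hb', hab]
  intro x hx
  rw [← hBeq] at hx
  exact hx.2

variable {o : golayCode}

/-- the lattice vectors supported on the octad -/
def Lo (o : golayCode) : AddSubgroup leechLattice where
  carrier := {v | ∀ i, i ∉ sup o → (v : GolayPt → ℤ) i = 0}
  zero_mem' := fun _ _ => rfl
  add_mem' := fun {a b} ha hb i hi => by
    show (a : GolayPt → ℤ) i + (b : GolayPt → ℤ) i = 0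
    rw [ha i hi, hb i hi, add_zero]
  neg_mem' := fun {a} ha i hi => by
    show -(a : GolayPt → ℤ) i = 0
    rw [ha i hi, neg_zero]

/-- restriction to the octad -/
def res (o : golayCode) : Lo o →+ (sup o → ℤ) where
  toFun v i := ((v : leechLattice) : GolayPt → ℤ) i
  map_zero' := rfl
  map_add' _ _ := rfl

theorem res_injective : Function.Injective (res o) := by
  intro v w h
  apply Subtype.ext
  apply Subtype.ext
  funext i
  by_cases hi : i ∈ sup o
  · exact congrFun h ⟨i, hi⟩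
  · rw [v.2 i hi, w.2 i hi]

theorem index_two (ho : wt o = 8) : ∃ r ≤ 8, ((nsmulAddMonoidHom (α := Lo o) 2).range).index = 2 ^ r := by
  let φ : Lo o →ₗ[ℤ] (sup o → ℤ) := (res o).toIntLinearMap
  have hφ : Function.Injective φ := res_injective
  have e := LinearEquiv.ofInjective φ hφ
  have h1 : Module.Finite ℤ (Lo o) := Module.Finite.equiv e.symm
  have h2 : Module.Free ℤ (Lo o) := Module.Free.of_equiv e.symm
  refine ⟨Module.finrank ℤ (Lo o), ?_, AddSubgroup.index_range_nsmul (Lo o) 2⟩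
  have h3 := LinearMap.finrank_le_finrank_of_injective hφ
  rw [Module.finrank_fintype_fun_eq_card, Fintype.card_coe] at h3
  have h4 : (sup o).card = 8 := ho
  omega

/-- the image in `L2` -/
noncomputable def Uo (o : golayCode) : AddSubgroup L2 := (Lo o).map cl

theorem card_Uo (ho : wt o = 8) : ∃ r ≤ 8, Nat.card (Uo o) ∣ 2 ^ r := by
  obtain ⟨r, hr, h⟩ := index_two ho
  refine ⟨r, hr, ?_⟩
  rw [← h]
  let f : Lo o →+ L2 := cl.comp (Lo o).subtype
  have h1 : Uo o = f.range := by
    ext x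
    constructor
    · rintro ⟨v, hv, rfl⟩
      exact ⟨⟨v, hv⟩, rfl⟩
    · rintro ⟨v, rfl⟩
      exact ⟨v, v.2, rfl⟩
  rw [h1, ← AddSubgroup.index_ker]
  refine AddSubgroup.index_dvd_of_le ?_
  rintro _ ⟨v, rfl⟩
  show cl ((2 • v : Lo o) : leechLattice) = 0
  exact cl_two v

theorem mem_Lo_iff {v : leechLattice} : v ∈ Lo o ↔ signCo0 o • v = -v :=
  (Cfsg.Agent.KFacts.Co1.RHat.sign_neg_iff o v).symm

/-- an element of order 13 of `C₀(o)` lies in `N` -/
theorem mem_N_of_thirteen (ho : wt o = 8) {g : Co0} (hg : g ∈ C0 o) (h13 : g ^ 13 = 1) : g ∈ N := by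
  obtain ⟨r, hr, hc⟩ := card_Uo ho
  have hU : ∀ x ∈ Uo o, g • x ∈ Uo o := by
    rintro _ ⟨v, hv, rfl⟩
    refine ⟨g • v, ?_, rfl⟩
    have hv' : signCo0 o • v = -v := mem_Lo_iff.1 hv
    show g • v ∈ Lo o
    rw [mem_Lo_iff, ← mul_smul, ← mem_C0.1 hg, mul_smul, hv', Cfsg.Agent.SporadicA.Co0Mono.smul_neg]
  have h1 := fixed_thirteen h13 (Uo o) hU (hr.trans (by norm_num)) hc
  obtain ⟨i, hi⟩ : (sup o).Nonempty := by
    rw [← Finset.card_pos]
    have : (sup o).card = 8 := ho
    omega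
  have h2 : g • cl (e8 i) = cl (e8 i) := h1 _ ⟨e8 i, fun j hj => by
    rw [Cfsg.Agent.MonsterU.CoFrame.coe_e8, if_neg]
    rintro rfl
    exact hj hi, rfl⟩
  have h3 : cl (e8 i) = f0 := (Cfsg.Agent.MonsterU.CoFrameL2.cong_iff_cl _ _).1 (Cfsg.Agent.MonsterU.CoFrameAct.cong_e8 i none)
  rw [h3] at h2
  have h4 : pr g • f0 = f0 := h2
  exact (Cfsg.Agent.MonsterU.CoFrameL2.pr_mem_F_iff g).1 ((Cfsg.Agent.MonsterU.CoFrameL2.mem_F_iff _).2 h4)

/-- the stabilizer of the frame -/
abbrev F : Subgroup Co1 := Cfsg.Agent.MonsterU.CoFrameF.F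

theorem mem_F_iff (s : Co1) : s ∈ F ↔ s • f0 = f0 := Cfsg.Agent.MonsterU.CoFrameL2.mem_F_iff s

/-- the central involution -/
def zz (o : golayCode) : Co1 := Cfsg.Agent.CoOneType.ClosingFacts.mk (signCo0 o)

theorem pr_mem_cent (ho : wt o = 8) (g : Co0) : pr g ∈ centralizer ({zz o} : Set Co1) ↔ g ∈ C0 o :=
  Cfsg.Agent.KFacts.Co1.InCo1.mem_cent ho g

theorem odd_index (ho : wt o = 8) : ¬ 2 ∣ (F ⊓ centralizer ({zz o} : Set Co1)).index := by
  have h1 : (F ⊓ centralizer ({zz o} : Set Co1)).comap pr = N ⊓ C0 o := by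
    ext g
    rw [Subgroup.mem_comap, mem_inf, mem_inf, pr_mem_cent ho]
    exact and_congr Cfsg.Agent.MonsterU.CoFrameF.pr_mem_F Iff.rfl
  have h2 := Subgroup.index_comap_of_surjective (F ⊓ centralizer ({zz o} : Set Co1)) pr_surjective
  rw [h1, Cfsg.Agent.KFacts.Co1.Perf.index_inf ho] at h2
  rw [← h2]
  norm_num

theorem finite : Finite Co1 := Nat.finite_of_card_ne_zero (by
  rw [Cfsg.Agent.MonsterU.CoFrameF.card_Co1]; norm_num)

/-- elements of order 13 of `C(z)` lie in `F` -/
theorem mem_F_of_thirteen (ho : wt o = 8) {y : Co1} (hy : y ∈ centralizer ({zz o} : Set Co1)) (h13 : y ^ 13 = 1) :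
    y ∈ F := by
  obtain ⟨g, rfl⟩ := pr_surjective y
  have hg := (pr_mem_cent ho g).1 hy
  have h1 : g ^ 13 = 1 ∨ g ^ 13 = signCo0 allOne := by
    rw [← Cfsg.Agent.MonsterU.CoFrameF.pr_eq_one, map_pow, h13]
  have h2 : (g ^ 14) ^ 13 = 1 := by
    rw [← pow_mul, mul_comm, pow_mul]
    rcases h1 with h | h
    · rw [h, one_pow]
    · rw [h, show (14 : ℕ) = 2 * 7 by norm_num, pow_mul, pow_two, Cfsg.Agent.SporadicA.Co0Mono.signCo0_mul_self, one_pow]
  have h3 := mem_N_of_thirteen ho (pow_mem hg 14) h2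
  have h4 : pr (g ^ 14) ∈ F := Cfsg.Agent.MonsterU.CoFrameF.pr_mem_F.2 h3
  rw [map_pow, show (14 : ℕ) = 13 + 1 by norm_num, pow_succ, h13, one_mul] at h4
  exact h4

theorem isPGroup_E : IsPGroup 2 E := by
  intro x
  refine ⟨1, Subtype.ext ?_⟩
  show (x : Co1) ^ 2 ^ 1 = 1
  rw [pow_one, pow_two]
  exact Cfsg.Agent.MonsterU.CoFrameF.sq_of_mem_E x.2

/-- a Sylow 2-subgroup of `F` contains `E` -/
theorem E_le [Finite Co1] (T : Sylow 2 Co1) (hT : (T : Subgroup Co1) ≤ F) : E ≤ T := by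
  have hfact : Fact (Nat.Prime 2) := ⟨Nat.prime_two⟩
  have hn : (T : Subgroup Co1) ≤ normalizer (E : Set Co1) := by
    intro s hs
    have hsF := hT hs
    rw [mem_normalizer_iff]
    intro x
    refine ⟨fun hx => Cfsg.Agent.MonsterU.CoFrameF.conj_mem_E hsF hx, fun hx => ?_⟩
    have h2 := Cfsg.Agent.MonsterU.CoFrameF.conj_mem_E (F.inv_mem hsF) hx
    have e : s⁻¹ * (s * x * s⁻¹) * s⁻¹⁻¹ = x := by group
    rwa [e] at h2
  have h1 : IsPGroup 2 ((T : Subgroup Co1) ⊔ E : Subgroup Co1) :=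
    (T.isPGroup').to_sup_of_normal_right' isPGroup_E hn
  have h2 := T.is_maximal' h1 le_sup_left
  exact le_sup_right.trans h2.le

theorem normalizer_le_F [Finite Co1] (T : Sylow 2 Co1) (hT : (T : Subgroup Co1) ≤ F) :
    normalizer ((T : Subgroup Co1) : Set Co1) ≤ F := by
  intro x hx
  have hE := E_le T hT
  rw [mem_F_iff]
  have h1 : x • f0 ∈ Cfsg.Agent.MonsterU.CoFrameL2.W1 := by
    refine Cfsg.Agent.MonsterU.CoFrameL2.mem_W1_of_E fun s hs => ?_
    have h2 : x⁻¹ * s * x ∈ (T : Subgroup Co1) := by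
      have := (mem_normalizer_iff.1 (inv_mem hx) s).1 (hE hs)
      rwa [inv_inv] at this
    have h3 := (mem_F_iff _).1 (hT h2)
    calc s • x • f0 = x • (x⁻¹ * s * x) • f0 := by rw [← mul_smul, ← mul_smul]; congr 1; group
      _ = x • f0 := by rw [h3]
  rcases (Cfsg.Agent.MonsterU.CoFrameL2.mem_W1 _).1 h1 with h2 | h2
  · exfalso
    apply Cfsg.Agent.MonsterU.CoFrameL2.f0_ne
    have h3 : x⁻¹ • x • f0 = x⁻¹ • (0 : L2) := by rw [h2]
    rwa [inv_smul_smul, smul_zero] at h3
  · exact h2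

/-- `F` is maximal -/
theorem eq_top_of {H : Subgroup Co1} (hF : F ≤ H) {x : Co1} (hx : x ∈ H) (hxF : x ∉ F) : H = ⊤ := by
  have h1 := Cfsg.Agent.S1572.result N (by
    ext g
    exact mem_N_iff g)
  have h2 : N < H.comap pr := by
    rw [← Cfsg.Agent.MonsterU.CoFrameF.comap_F]
    refine lt_of_le_of_ne (comap_mono hF) fun h => ?_
    obtain ⟨g, rfl⟩ := pr_surjective x
    apply hxF
    have : g ∈ H.comap pr := hx
    rw [← h] at this
    exact this
  have h3 := h1.2 _ h2
  rw [eq_top_iff]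
  intro y _
  obtain ⟨g, rfl⟩ := pr_surjective y
  have : g ∈ H.comap pr := by rw [h3]; exact mem_top _
  exact this

/-- `C(z)` is not contained in `F` -/
theorem exists_outside (ho : wt o = 8) : ∃ x ∈ centralizer ({zz o} : Set Co1), x ∉ F := by
  obtain ⟨S, hSo, hS⟩ := Finset.exists_subset_card_eq (s := sup o) (n := 4) (by
    have : (sup o).card = 8 := ho
    omega)
  obtain ⟨T, hT, hT0, hTo, -⟩ := CentOctad.exists_sextet ho hS hSo
  refine ⟨pr (Cfsg.Agent.SporadicA.Xi.xiCo0 T hT), (pr_mem_cent ho _).2 (xi_mem hT hTo), ?_⟩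
  intro h
  have h1 := Cfsg.Agent.MonsterU.CoFrameF.pr_mem_F.1 h
  obtain ⟨j, hj⟩ : S.Nonempty := by rw [← Finset.card_pos, hS]; norm_num
  have hTj : T j = 0 := Cfsg.Agent.SporadicA.Xi.mem_fib.1 (by rw [hT0]; exact hj)
  have h2 := Cfsg.Agent.KFacts.Co1.Simp.xi_apply hT hTj hTj
  rw [if_pos rfl] at h2
  obtain ⟨k, hk | hk⟩ := Cfsg.Agent.KFacts.Co1.Simp.exists_of_mem_N h1 j
  · rw [hk, Cfsg.Agent.MonsterU.CoFrame.coe_e8] at h2
    split_ifs at h2 <;> omega
  · rw [hk, Cfsg.Agent.KFacts.Co1.Simp.neg_coe, Cfsg.Agent.MonsterU.CoFrame.coe_e8] at h2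
    split_ifs at h2 <;> omega

/-- **`Co₁`** -/
theorem good {π : Set ℕ} (h2 : 2 ∈ π) (h3 : 3 ∈ π) : Good π Co1 := by
  intro hd
  have hfin := finite
  obtain ⟨O, hO⟩ := Cfsg.Agent.CoOneType.ClosingCo1.exists_octad
  obtain ⟨T, hT⟩ := exists_sylow_le (odd_index hO)
  have hTF : (T : Subgroup Co1) ≤ F := hT.trans inf_le_left
  have hTC : (T : Subgroup Co1) ≤ centralizer ({zz O} : Set Co1) := hT.trans inf_le_right
  have hN := normalizer_le_F T hTF
  have hd1 : DT π F := hd.descend T hTF hN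
  have hker : IsPiSubgroup π Cfsg.Agent.MonsterU.CoFrameF.toM24.ker := by
    refine isPi_of_isPGroup h2 ?_
    rw [Cfsg.Agent.MonsterU.CoFrameF.ker_toM24]
    exact isPGroup_E.comap_of_injective _ (subtype_injective _)
  have hd2 : DT π M24 := hd1.of_surjective _ Cfsg.Agent.MonsterU.CoFrameF.toM24_surjective hker
  have hM := M24.good h2 h3 hd2
  have hF : IsPiSubgroup π F := by
    intro p hp hpd
    have h4 := Cfsg.Agent.MonsterU.CoFrameF.toM24.ker.card_mul_index
    rw [Subgroup.index_ker, MonoidHom.range_eq_top.2 Cfsg.Agent.MonsterU.CoFrameF.toM24_surjective, card_top] at h4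
    rw [← h4] at hpd
    rcases (Nat.Prime.dvd_mul hp).1 hpd with h | h
    · exact hker p hp h
    · exact hM p hp h
  obtain ⟨H, hH, hU⟩ := hd.exists_ge T (isPi_of_le hF hN)
  have hFH := hU _ hF hTF
  have hC : IsPiSubgroup π (centralizer ({zz O} : Set Co1)) := by
    intro p hp hpd
    have h4 := hpd.trans (card_subgroup_dvd_card _)
    rw [Cfsg.Agent.MonsterU.CoFrameF.card_Co1] at h4
    by_cases hp13 : p = 13
    · subst hp13
      have hpf : Fact (Nat.Prime 13) := ⟨hp⟩
      obtain ⟨y, hy⟩ := exists_prime_orderOf_dvd_card' 13 hpd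
      have h5 : (y : Co1) ^ 13 = 1 := by
        have h6 := pow_orderOf_eq_one y
        rw [hy] at h6
        exact congrArg Subtype.val h6
      have h6 := mem_F_of_thirteen hO y.2 h5
      have h7 : orderOf (⟨(y : Co1), h6⟩ : F) = 13 := by rw [orderOf_mk, ← hy, orderOf_coe]
      exact hF 13 hp (h7 ▸ orderOf_dvd_natCard _)
    · have h5 : p ∣ 2 ^ 21 * 3 ^ 9 * 5 ^ 4 * 7 ^ 2 * 11 * 13 * 23 := by
        refine h4.trans ?_
        norm_num
      have hM24 : Nat.card M24 = 244823040 := Cfsg.Agent.S0364.result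
      have m : ∀ q : ℕ, q.Prime → q ∣ 244823040 → q ∈ π := fun q hq h => hM q hq (by rw [hM24]; exact h)
      simp only [hp.dvd_mul] at h5
      rcases h5 with ((((((h | h) | h) | h) | h) | h) | h)
      · rw [(Nat.prime_dvd_prime_iff_eq hp Nat.prime_two).1 (hp.dvd_of_dvd_pow h)]; exact h2
      · rw [(Nat.prime_dvd_prime_iff_eq hp Nat.prime_three).1 (hp.dvd_of_dvd_pow h)]; exact h3
      · rw [(Nat.prime_dvd_prime_iff_eq hp (by norm_num)).1 (hp.dvd_of_dvd_pow h)]; exact m 5 (by norm_num) (by norm_num)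
      · rw [(Nat.prime_dvd_prime_iff_eq hp (by norm_num)).1 (hp.dvd_of_dvd_pow h)]; exact m 7 (by norm_num) (by norm_num)
      · rw [(Nat.prime_dvd_prime_iff_eq hp (by norm_num)).1 h]; exact m 11 (by norm_num) (by norm_num)
      · exact absurd ((Nat.prime_dvd_prime_iff_eq hp (by norm_num)).1 h) hp13
      · rw [(Nat.prime_dvd_prime_iff_eq hp (by norm_num)).1 h]; exact m 23 (by norm_num) (by norm_num)
  have hCH := hU _ hC hTC
  obtain ⟨x, hx, hxF⟩ := exists_outside hO
  exact pg_of_top hH.pi (eq_top_of hFH (hCH hx) hxF)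

theorem row_Co1 {S : Type*} [Group S] [Finite S] (h : Cfsg.Spor.IsoCo1 S) {π : Set ℕ} (h2 : 2 ∈ π) (h3 : 3 ∈ π)
    (hD : DC π S) : PiGrp π S := by
  obtain ⟨e⟩ := h
  have hfin := finite
  exact row_of_good (Good.congr e (good h2 h3)) h2 hD

/-- **The Monster** -/
theorem row_M {S : Type*} [Group S] [Finite S] (h : Cfsg.Spor.IsoM S) {π : Set ℕ} (h2 : 2 ∈ π) (h3 : 3 ∈ π)
    (hD : DC π S) : PiGrp π S := MonRow.row_M h h2 h3 (good h2 h3) hD

end Cfsg.Agent.H861.PiS.CoOneRow
end
end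

-- part: H543/PiBS/J1_mg
section
set_option linter.all false
open scoped Cfsg.Agent.FastGrp

-- part: H543/PiBS/J1
section
/-!
# S3876, sporadic rows with `2, 3 ∈ π`: `J1`
-/

set_option autoImplicit false
set_option linter.style.haveILetI false

namespace Cfsg.Agent.H543.PiBS.JOne

open Subgroup Cfsg Cfsg.Agent.H305.SepJ1 Cfsg.Agent.H940.Eng
open scoped Pointwise

theorem cardG : Nat.card G = 175560 := card

/-- all divisors of `7315` -/
theorem mem_div {n : ℕ} (h : n ∣ 7315) : n ∈ [1, 19, 11, 209, 7, 133, 77, 1463, 5, 95, 55, 1045, 35, 665, 385, 7315] := by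
  have h1 : n ∣ Cfsg.Agent.OrdDiv.prodl [(5, 1), (7, 1), (11, 1), (19, 1)] := by
    have : Cfsg.Agent.OrdDiv.prodl [(5, 1), (7, 1), (11, 1), (19, 1)] = 7315 := by decide +kernel
    rw [this]; exact h
  have h2 := mem_divsT (l := [(5, 1), (7, 1), (11, 1), (19, 1)]) (by
    intro x hx
    simp only [List.mem_cons, List.not_mem_nil, or_false] at hx
    rcases hx with rfl | rfl | rfl | rfl <;> norm_num) h1
  have h3 : divsT [(5, 1), (7, 1), (11, 1), (19, 1)] =
      [1, 19, 11, 209, 7, 133, 77, 1463, 5, 95, 55, 1045, 35, 665, 385, 7315] := by decide +kernel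
  rwa [h3] at h2

theorem index_dvd {π : Set ℕ} (h2 : 2 ∈ π) (h3 : 3 ∈ π) {H : Subgroup G} (hH : IsPiHall π H) : H.index ∣ 7315 := by
  haveI := fin
  have h1 : H.index ∣ 7315 * 24 := by
    have := H.index_dvd_card
    rw [cardG] at this
    exact this
  refine Nat.Coprime.dvd_of_dvd_mul_right ?_ h1
  have e : (24 : ℕ) = 2 ^ 3 * 3 := by norm_num
  rw [e]
  refine Nat.Coprime.mul_right (Nat.Coprime.pow_right 3 ?_) ?_
  · exact ((Nat.Prime.coprime_iff_not_dvd Nat.prime_two).mpr (hH.2 2 Nat.prime_two h2)).symm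
  · exact ((Nat.Prime.coprime_iff_not_dvd Nat.prime_three).mpr (hH.2 3 Nat.prime_three h3)).symm

theorem index_eq {π : Set ℕ} (hD : DC π G) {H K : Subgroup G} (hH : IsPiHall π H) (hK : IsPiHall π K) :
    H.index = K.index := by
  obtain ⟨g, rfl⟩ := hD.c H K hH hK
  exact (index_map_equiv _ _).symm

/-- the sieve at an exact prime -/
theorem sieve_exact {π : Set ℕ} (hD : DC π G) {r m : ℕ} (hr : r.Prime) (hrd : r ∣ 175560) (hr2 : ¬ r ^ 2 ∣ 175560)
    (hN : ∀ R : Subgroup G, Nat.card R = r → Nat.card (normalizer (R : Set G)) = m)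
    (hm : ∀ p : ℕ, p.Prime → p ∣ m → p ∈ π) {H : Subgroup G} (hH : IsPiHall π H) : H.index % r = 1 % r := by
  haveI := fin
  haveI := Fact.mk hr
  obtain ⟨R⟩ := (inferInstance : Nonempty (Sylow r G))
  have hRc : Nat.card R = r := by
    have h1 := R.card_eq_multiplicity
    have h3 : (Nat.card G).factorization r = 1 := by
      rw [cardG]
      refine le_antisymm ?_ ((hr.dvd_iff_one_le_factorization (by norm_num)).1 hrd)
      by_contra hlt
      push Not at hlt
      exact hr2 ((hr.pow_dvd_iff_le_factorization (by norm_num)).2 hlt)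
    rw [h1, h3, pow_one]
  obtain ⟨K, hK, -, hKi⟩ := Cfsg.Agent.H982.PiJ.sieve hD R (fun p hp hd => hm p hp (by
    rw [hN (R : Subgroup G) hRc] at hd; exact hd))
  rw [index_eq hD hH hK]
  exact hKi

/-! ### no subgroup of order 264 -/

theorem sub_bounds {H : Subgroup G} {R : Subgroup H} (hR : Nat.card R = 11) :
    Nat.card (normalizer (R : Set H)) ∣ 110 ∧ Nat.card (centralizer (R : Set H)) ∣ 11 := by
  haveI := fin
  set R' : Subgroup G := R.map H.subtype with hR'
  have hR'c : Nat.card R' = 11 := by rw [hR', card_map_of_injective H.subtype_injective, hR]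
  obtain ⟨hC, hN⟩ := cn11 hR'c
  constructor
  · refine dvd_trans ?_ (dvd_of_eq hN)
    have h3 : (normalizer (R : Set H)).map H.subtype ≤ normalizer (R' : Set G) := by
      rintro _ ⟨a, ha, rfl⟩
      rw [mem_normalizer_iff]
      intro z
      constructor
      · rintro ⟨w, hw, rfl⟩
        exact ⟨_, (mem_normalizer_iff.1 ha w).1 hw, rfl⟩
      · rintro ⟨w, hw, hw'⟩
        have h4 : a⁻¹ * w * a ∈ R := by
          have h5 := (mem_normalizer_iff.1 ha (a⁻¹ * w * a)).2 (by
            have h6 : a * (a⁻¹ * w * a) * a⁻¹ = w := by group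
            rw [h6]
            exact hw)
          exact h5
        refine ⟨_, h4, ?_⟩
        have h7 : (w : G) = (a : G) * z * (a : G)⁻¹ := hw'
        show ((a⁻¹ * w * a : H) : G) = z
        push_cast
        rw [h7]
        group
    rw [← card_map_of_injective H.subtype_injective]
    exact card_dvd_of_le h3
  · refine dvd_trans ?_ (dvd_of_eq hC)
    have h3 : (centralizer (R : Set H)).map H.subtype ≤ centralizer (R' : Set G) := by
      rintro _ ⟨a, ha, rfl⟩
      rw [mem_centralizer_iff]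
      rintro _ ⟨w, hw, rfl⟩
      exact congrArg Subtype.val ((mem_centralizer_iff.1 ha) w hw)
    rw [← card_map_of_injective H.subtype_injective]
    exact card_dvd_of_le h3

theorem no_264 {H : Subgroup G} (hH : Nat.card H = 264) : False := by
  haveI := fin
  have hp : Nat.Prime 11 := by norm_num
  haveI := Fact.mk hp
  obtain ⟨x, hx⟩ := exists_prime_orderOf_dvd_card' (G := H) 11 (by rw [hH]; norm_num)
  have hRc : Nat.card (zpowers x) = 11 := by rw [Nat.card_zpowers, hx]
  obtain ⟨hN, hC⟩ := sub_bounds hRc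
  obtain ⟨k, c, s, ν, t, e1, e2, e3, e4, e5, e6, e7, e8, e9, e10⟩ :=
    struct hp (by rw [hH]; norm_num) (zpowers x) hRc
  rw [hH] at e1
  have hc1 : c = 1 := by
    rcases (Nat.dvd_prime hp).1 (e3.trans hC) with h | h
    · exact h
    · exact absurd (h ▸ e4) e5
  have hk : k ∣ 264 := by rw [e1]; exact ⟨s * t, by ring⟩
  have hk0 : k ≠ 0 := by rintro rfl; simp at e1
  -- `k` is odd and prime to 3
  have hpk : ∀ p : ℕ, p.Prime → p ^ k.factorization p ≡ 1 [MOD 11] := by
    intro p hpp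
    obtain ⟨j, hj, hjm⟩ := e9 p hpp
    rw [hc1] at hj
    have hj1 : p ^ j = 1 := Nat.dvd_one.1 hj
    rw [hj1] at hjm
    exact hjm
  have h2 : k.factorization 2 = 0 := by
    have h3 : k.factorization 2 ≤ 3 := by
      by_contra hlt
      push Not at hlt
      have h4 : 2 ^ 4 ∣ k := (Nat.prime_two.pow_dvd_iff_le_factorization hk0).2 hlt
      exact absurd (h4.trans hk) (by norm_num)
    have h5 := hpk 2 Nat.prime_two
    generalize k.factorization 2 = a at h3 h5
    interval_cases a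
    · rfl
    all_goals exact absurd h5 (by decide)
  have h3 : k.factorization 3 = 0 := by
    have h3 : k.factorization 3 ≤ 1 := by
      by_contra hlt
      push Not at hlt
      have h4 : 3 ^ 2 ∣ k := (Nat.prime_three.pow_dvd_iff_le_factorization hk0).2 hlt
      exact absurd (h4.trans hk) (by norm_num)
    have h5 := hpk 3 Nat.prime_three
    generalize k.factorization 3 = a at h3 h5
    interval_cases a
    · rfl
    all_goals exact absurd h5 (by decide)
  have hk1 : k = 1 := by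
    have h4 : ¬ 2 ∣ k := fun h => by
      have := (Nat.prime_two.dvd_iff_one_le_factorization hk0).1 h
      omega
    have h5 : ¬ 3 ∣ k := fun h => by
      have := (Nat.prime_three.dvd_iff_one_le_factorization hk0).1 h
      omega
    have h6 : k.Coprime (2 ^ 3 * 3 * 11) := by
      refine Nat.Coprime.mul_right (Nat.Coprime.mul_right (Nat.Coprime.pow_right 3 ?_) ?_) ?_
      · exact ((Nat.Prime.coprime_iff_not_dvd Nat.prime_two).mpr h4).symm
      · exact ((Nat.Prime.coprime_iff_not_dvd Nat.prime_three).mpr h5).symm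
      · exact ((Nat.Prime.coprime_iff_not_dvd hp).mpr e5).symm
    exact Nat.eq_one_of_dvd_coprimes h6 dvd_rfl (by norm_num; exact hk)
  rw [hk1, one_mul] at e1
  have hs : s ∣ 264 := ⟨t, e1⟩
  rcases e10 with h | ⟨T, i1, i2, hT, hna, hTc⟩
  · -- s = 11
    rw [h] at e1
    have ht : t = 24 := by omega
    rw [hc1, ht] at e2
    rw [e2] at hN
    have h5 : 24 ∣ 110 := (Dvd.intro_left _ rfl).trans hN
    exact absurd h5 (by norm_num)
  · have h1 := S0496.result (G := T) (fun h => hna fun a b => h.is_comm.comm a b)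
      (by rw [hTc]; exact (Nat.le_of_dvd (by norm_num) hs).trans (by norm_num))
    rw [hTc] at h1
    rcases h1 with h1 | h1 | h1 | h1 | h1 | h1 <;> (rw [h1] at hs; exact absurd hs (by norm_num))

/-! ### order 24 -/

abbrev CA := Multiplicative (ZMod 2) × alternatingGroup (Fin 5)

/-- `2 × S3` -/
def X0 : Subgroup CA := (MulAction.stabilizer (Equiv.Perm (Fin 5)) ({3, 4} : Finset (Fin 5))).comap
  ((alternatingGroup (Fin 5)).subtype.comp (MonoidHom.snd (Multiplicative (ZMod 2)) (alternatingGroup (Fin 5))))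

/-- `2 × A4` -/
def Y0 : Subgroup CA := (MulAction.stabilizer (Equiv.Perm (Fin 5)) (4 : Fin 5)).comap
  ((alternatingGroup (Fin 5)).subtype.comp (MonoidHom.snd (Multiplicative (ZMod 2)) (alternatingGroup (Fin 5))))

theorem mem_X0 {p : CA} : p ∈ X0 ↔ (p.2 : Equiv.Perm (Fin 5)) • ({3, 4} : Finset (Fin 5)) = {3, 4} := Iff.rfl

theorem mem_Y0 {p : CA} : p ∈ Y0 ↔ (p.2 : Equiv.Perm (Fin 5)) 4 = 4 := Iff.rfl

theorem card_X0 : Nat.card X0 = 12 := by
  have e : X0 ≃ {p : CA // (p.2 : Equiv.Perm (Fin 5)) • ({3, 4} : Finset (Fin 5)) = {3, 4}} := Equiv.refl _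
  rw [Nat.card_congr e, Nat.card_eq_fintype_card]
  decide +kernel

theorem card_Y0 : Nat.card Y0 = 24 := by
  have e : Y0 ≃ {p : CA // (p.2 : Equiv.Perm (Fin 5)) 4 = 4} := Equiv.refl _
  rw [Nat.card_congr e, Nat.card_eq_fintype_card]
  decide +kernel

/-- the 3-cycle `(0 1 2)` -/
def a0 : CA := (1, ⟨c[0, 1, 2], by rw [Equiv.Perm.mem_alternatingGroup]; decide +kernel⟩)

/-- the 3-cycle `(1 2 3)` -/
def b0 : CA := (1, ⟨c[1, 2, 3], by rw [Equiv.Perm.mem_alternatingGroup]; decide +kernel⟩)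

theorem a0_X : a0 ∈ X0 := by rw [mem_X0]; decide +kernel
theorem a0_Y : a0 ∈ Y0 := by rw [mem_Y0]; decide +kernel
theorem b0_Y : b0 ∈ Y0 := by rw [mem_Y0]; decide +kernel
theorem a0_cube : a0 ^ 3 = 1 := by decide +kernel
theorem b0_cube : b0 ^ 3 = 1 := by decide +kernel
theorem a0_ne : a0 ≠ 1 := by decide +kernel
theorem ab_sq : (a0 * b0) ^ 2 = 1 := by decide +kernel
theorem ab_ne : a0 * b0 ≠ 1 := by decide +kernel

theorem X0_norm : ∀ p : CA, (p.2 : Equiv.Perm (Fin 5)) • ({3, 4} : Finset (Fin 5)) = {3, 4} →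
    p * a0 * p⁻¹ = a0 ∨ p * a0 * p⁻¹ = a0 ^ 2 := by decide +kernel

theorem three_pow (n : ℕ) : Nat.Coprime 2 (3 ^ n) := Nat.Coprime.pow_right n (by norm_num)

/-- **no Hall π-subgroup of order 24** -/
theorem no_24 {π : Set ℕ} (h2 : 2 ∈ π) (h3 : 3 ∈ π) (hD : DC π G) {H : Subgroup G} (hH : IsPiHall π H)
    (hc : Nat.card H = 24) : False := by
  haveI := fin
  haveI := Fact.mk Nat.prime_three
  haveI := Fact.mk Nat.prime_two
  obtain ⟨x, hx⟩ := exists_prime_orderOf_dvd_card' (G := G) 2 (by rw [cardG]; norm_num)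
  obtain ⟨e⟩ := local'.cent x hx
  set φ : CA →* G := (centralizer ({x} : Set G)).subtype.comp e.symm.toMonoidHom with hφ
  have hφi : Function.Injective φ := by
    intro u v huv
    exact e.symm.injective (Subtype.ext huv)
  have hXc : Nat.card (X0.map φ) = 12 := by rw [card_map_of_injective hφi, card_X0]
  have hYc : Nat.card (Y0.map φ) = 24 := by rw [card_map_of_injective hφi, card_Y0]
  have hXpi : IsPiSubgroup π (X0.map φ) := isPi_of_card (a := 2) (b := 1) h2 h3 hXc (by norm_num)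
  have hYpi : IsPiSubgroup π (Y0.map φ) := isPi_of_card (a := 3) (b := 1) h2 h3 hYc (by norm_num)
  -- the Sylow 3-subgroup
  have ho : orderOf a0 = 3 := orderOf_eq_prime a0_cube a0_ne
  have hoφ : orderOf (φ a0) = 3 := by rw [orderOf_injective φ hφi, ho]
  have hRc : Nat.card (zpowers (φ a0)) = 3 ^ (Nat.card G).factorization 3 := by
    rw [Nat.card_zpowers, hoφ, cardG]
    have : (175560 : ℕ).factorization 3 = 1 := by
      refine le_antisymm ?_ ((Nat.prime_three.dvd_iff_one_le_factorization (by norm_num)).1 (by norm_num))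
      by_contra hlt
      push Not at hlt
      exact absurd ((Nat.prime_three.pow_dvd_iff_le_factorization (by norm_num)).2 hlt) (by norm_num)
    rw [this, pow_one]
  set R : Sylow 3 G := Sylow.ofCard (zpowers (φ a0)) hRc with hR
  have hRe : (R : Subgroup G) = zpowers (φ a0) := Sylow.coe_ofCard _ _
  have hRX : (R : Subgroup G) ≤ X0.map φ := by
    rw [hRe, zpowers_le]
    exact ⟨a0, a0_X, rfl⟩
  have hXR : X0.map φ ≤ normalizer ((R : Subgroup G) : Set G) := by
    rintro _ ⟨u, hu, rfl⟩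
    rw [hRe]
    have key : ∀ u : CA, u ∈ X0 → ∀ z ∈ zpowers (φ a0), φ u * z * (φ u)⁻¹ ∈ zpowers (φ a0) := by
      rintro u hu z ⟨n, rfl⟩
      have h1 : φ u * φ a0 * (φ u)⁻¹ ∈ zpowers (φ a0) := by
        rw [← map_mul, ← map_inv, ← map_mul]
        rcases X0_norm u (mem_X0.1 hu) with h | h
        · rw [h]; exact mem_zpowers _
        · rw [h, map_pow]; exact pow_mem (mem_zpowers _) 2
      have h2 : φ u * (φ a0) ^ n * (φ u)⁻¹ = (φ u * φ a0 * (φ u)⁻¹) ^ n := by rw [conj_zpow]
      show φ u * (φ a0) ^ n * (φ u)⁻¹ ∈ _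
      rw [h2]
      exact zpow_mem h1 n
    rw [mem_normalizer_iff]
    intro z
    constructor
    · exact key u hu z
    · intro hz
      have := key u⁻¹ (inv_mem hu) _ hz
      rw [map_inv] at this
      have h5 : (φ u)⁻¹ * (φ u * z * (φ u)⁻¹) * ((φ u)⁻¹)⁻¹ = z := by group
      rwa [h5] at this
  refine false_of_mul hD hXpi R hRX hXR hH ?_ hYpi ⟨a0, a0_Y, rfl⟩ ⟨b0, b0_Y, rfl⟩
    ⟨1, by rw [pow_one, ← map_pow, a0_cube, map_one]⟩ ⟨1, by rw [pow_one, ← map_pow, b0_cube, map_one]⟩ ?_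
  · rw [hXc, hc]
    intro d hd hd1
    have h5 : d ∣ 2 := by
      have : 12 * d ∣ 12 * 2 := by rw [mul_comm 12 d]; exact hd
      exact Nat.dvd_of_mul_dvd_mul_left (by norm_num) this
    rcases (Nat.dvd_prime Nat.prime_two).1 h5 with h | h
    · exact h
    · rw [h] at hd1; exact absurd hd1 (by decide)
  · rintro ⟨k, hk⟩
    rw [← map_mul, ← map_pow] at hk
    have h5 : (a0 * b0) ^ 3 ^ k = 1 := hφi (by rw [hk, map_one])
    have h6 : orderOf (a0 * b0) ∣ 1 := by
      rw [← three_pow k]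
      exact Nat.dvd_gcd (orderOf_dvd_of_pow_eq_one ab_sq) (orderOf_dvd_of_pow_eq_one h5)
    exact ab_ne (orderOf_eq_one_iff.mp (Nat.dvd_one.mp h6))

theorem model {π : Set ℕ} (h2 : 2 ∈ π) (h3 : 3 ∈ π) (hD : DC π G) : PiGrp π G := by
  haveI := fin
  obtain ⟨H, hH⟩ := hD.exists_hall
  have hi := mem_div (index_dvd h2 h3 hH)
  by_cases h1 : H.index = 1
  · intro p hp hd
    exact hH.1 p hp (by rw [index_eq_one.1 h1, card_top]; exact hd)
  exfalso
  have hp5 : Nat.Prime 5 := by norm_num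
  have hp7 : Nat.Prime 7 := by norm_num
  have hp11 : Nat.Prime 11 := by norm_num
  have hp19 : Nat.Prime 19 := by norm_num
  have hcm := H.card_mul_index
  rw [cardG] at hcm
  -- primes of the index
  have hnd : ∀ p : ℕ, p.Prime → p ∈ π → ¬ p ∣ H.index := hH.2
  have hin : ∀ p : ℕ, p.Prime → p ∣ 175560 → ¬ p ∣ H.index → p ∈ π := by
    intro p hp hd hn
    rw [← hcm] at hd
    rcases (hp.dvd_mul).1 hd with h | h
    · exact hH.1 p hp h
    · exact absurd h hn
  by_cases h7 : 7 ∈ π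
  · have hs := sieve_exact hD (r := 7) (m := 42) hp7 (by norm_num) (by norm_num) (fun R hR => (cn7 hR).2) (by
      intro p hp hd
      have : (42 : ℕ) = 2 * 3 * 7 := by norm_num
      rw [this, hp.dvd_mul, hp.dvd_mul] at hd
      rcases hd with (hd | hd) | hd
      · rw [(Nat.prime_dvd_prime_iff_eq hp Nat.prime_two).1 hd]; exact h2
      · rw [(Nat.prime_dvd_prime_iff_eq hp Nat.prime_three).1 hd]; exact h3
      · rw [(Nat.prime_dvd_prime_iff_eq hp hp7).1 hd]; exact h7) hH
    simp only [List.mem_cons, List.not_mem_nil, or_false] at hi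
    rcases hi with h | h | h | h | h | h | h | h | h | h | h | h | h | h | h | h <;> rw [h] at hs <;>
      first | exact h1 h | exact absurd hs (by decide)
  have d7 : 7 ∣ H.index := by by_contra hn; exact h7 (hin 7 hp7 (by norm_num) hn)
  by_cases h5 : 5 ∈ π
  · have hs := sieve_exact hD (r := 5) (m := 60) hp5 (by norm_num) (by norm_num) (fun R hR => (cn5 hR).2) (by
      intro p hp hd
      have : (60 : ℕ) = 2 ^ 2 * 3 * 5 := by norm_num
      rw [this, hp.dvd_mul, hp.dvd_mul] at hd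
      rcases hd with (hd | hd) | hd
      · rw [(Nat.prime_dvd_prime_iff_eq hp Nat.prime_two).1 (hp.dvd_of_dvd_pow hd)]; exact h2
      · rw [(Nat.prime_dvd_prime_iff_eq hp Nat.prime_three).1 hd]; exact h3
      · rw [(Nat.prime_dvd_prime_iff_eq hp hp5).1 hd]; exact h5) hH
    simp only [List.mem_cons, List.not_mem_nil, or_false] at hi
    rcases hi with h | h | h | h | h | h | h | h | h | h | h | h | h | h | h | h <;> rw [h] at hs d7 <;>
      first | exact h1 h | exact absurd hs (by decide) | exact absurd d7 (by decide)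
  have d5 : 5 ∣ H.index := by by_contra hn; exact h5 (hin 5 hp5 (by norm_num) hn)
  by_cases h19 : 19 ∈ π
  · have hs := sieve_exact hD (r := 19) (m := 114) hp19 (by norm_num) (by norm_num) (fun R hR => (cn19 hR).2) (by
      intro p hp hd
      have : (114 : ℕ) = 2 * 3 * 19 := by norm_num
      rw [this, hp.dvd_mul, hp.dvd_mul] at hd
      rcases hd with (hd | hd) | hd
      · rw [(Nat.prime_dvd_prime_iff_eq hp Nat.prime_two).1 hd]; exact h2
      · rw [(Nat.prime_dvd_prime_iff_eq hp Nat.prime_three).1 hd]; exact h3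
      · rw [(Nat.prime_dvd_prime_iff_eq hp hp19).1 hd]; exact h19) hH
    simp only [List.mem_cons, List.not_mem_nil, or_false] at hi
    rcases hi with h | h | h | h | h | h | h | h | h | h | h | h | h | h | h | h <;> rw [h] at hs d7 d5 <;>
      first | exact h1 h | exact absurd hs (by decide) | exact absurd d7 (by decide) | exact absurd d5 (by decide)
  have d19 : 19 ∣ H.index := by by_contra hn; exact h19 (hin 19 hp19 (by norm_num) hn)
  simp only [List.mem_cons, List.not_mem_nil, or_false] at hi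
  rcases hi with h | h | h | h | h | h | h | h | h | h | h | h | h | h | h | h <;> rw [h] at d5 d7 d19 <;>
    first
      | exact absurd d7 (by decide)
      | exact absurd d5 (by decide)
      | exact absurd d19 (by decide)
      | skip
  · rw [h] at hcm
    exact no_264 (H := H) (by omega)
  · rw [h] at hcm
    exact no_24 h2 h3 hD hH (by omega)

end Cfsg.Agent.H543.PiBS.JOne

namespace Cfsg.Agent.H543.PiBS

open Cfsg

/-- **`J1`, `2, 3 ∈ π`** -/
theorem row_J1 {S : Type*} [Group S] [Finite S] (h : Spor.IsoJ1 S) {π : Set ℕ} (h2 : 2 ∈ π) (h3 : 3 ∈ π)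
    (hD : DC π S) : PiGrp π S := by
  obtain ⟨e⟩ := h
  have h1 := JOne.model h2 h3 (hD.congr e)
  intro p hp hd
  exact h1 p hp (by rw [← Nat.card_congr e.toEquiv]; exact hd)

end Cfsg.Agent.H543.PiBS
end

-- part: H861/PiS/AltEleven
section
/-!
# S3876: `Good π A₁₁` (helper861)
-/

set_option autoImplicit false

namespace Cfsg.Agent.H861.PiS

/-- elements of prime order `p ≥ 5` preserving a partition with few parts of small size -/
theorem part_five {X : Type*} [DecidableEq X] [Fintype X] {κ : Type*} [DecidableEq κ] (blk : X → κ)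
    (hF : (Finset.univ.image fun a => (Finset.univ.filter fun b => blk b = blk a : Finset X)).card < 5)
    (hB : ∀ a, (Finset.univ.filter fun b => blk b = blk a).card < 5) {p : ℕ} (hp : p.Prime) (h5 : 5 ≤ p)
    (g : Equiv.Perm X) (hg : g ^ p = 1) (hc : ∀ a b, blk (g a) = blk (g b) ↔ blk a = blk b) : g = 1 := by
  refine eq_one_of_blocks g hp h5 hg
    (Finset.univ.image fun a => (Finset.univ.filter fun b => blk b = blk a : Finset X)) hF ?_ ?_ ?_
  · intro B hB'
    rw [Finset.mem_image] at hB'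
    obtain ⟨a, -, rfl⟩ := hB'
    exact hB a
  · intro B hB'
    rw [Finset.mem_image] at hB' ⊢
    obtain ⟨a, -, rfl⟩ := hB'
    refine ⟨g a, Finset.mem_univ _, ?_⟩
    ext y
    rw [Finset.mem_filter, Finset.mem_map]
    constructor
    · rintro ⟨-, h⟩
      refine ⟨g⁻¹ y, ?_, g.apply_symm_apply y⟩
      rw [Finset.mem_filter]
      refine ⟨Finset.mem_univ _, ?_⟩
      rw [← hc, show g (g⁻¹ y) = y from g.apply_symm_apply y]
      exact h
    · rintro ⟨b, hb, rfl⟩
      rw [Finset.mem_filter] at hb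
      exact ⟨Finset.mem_univ _, (hc b a).2 hb.2⟩
  · have h1 : Finset.univ \ (Finset.univ.image fun a => (Finset.univ.filter fun b => blk b = blk a :
        Finset X)).biUnion id = (∅ : Finset X) := by
      rw [Finset.sdiff_eq_empty_iff_subset]
      intro y _
      rw [Finset.mem_biUnion]
      exact ⟨_, Finset.mem_image.2 ⟨y, Finset.mem_univ _, rfl⟩, Finset.mem_filter.2 ⟨Finset.mem_univ _, rfl⟩⟩
    rw [h1, Finset.card_empty]
    norm_num

namespace Eleven

open Cfsg Subgroup
open Cfsg.Agent.H841.PiBS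
open Cfsg.Agent.GH.Pc Cfsg.Agent.GH.Models.Proj

abbrev P11 := Equiv.Perm (Fin 11)
abbrev A11 := alternatingGroup (Fin 11)

/-- the polycyclic family of a Sylow 2-subgroup -/
def xp : Fin 7 → P11 := ![
  ⟨![4, 5, 6, 7, 0, 1, 2, 3, 8, 9, 10], ![4, 5, 6, 7, 0, 1, 2, 3, 8, 9, 10], by decide, by decide⟩,
  ⟨![2, 3, 0, 1, 4, 5, 6, 7, 8, 9, 10], ![2, 3, 0, 1, 4, 5, 6, 7, 8, 9, 10], by decide, by decide⟩,
  ⟨![0, 1, 2, 3, 6, 7, 4, 5, 8, 9, 10], ![0, 1, 2, 3, 6, 7, 4, 5, 8, 9, 10], by decide, by decide⟩,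
  ⟨![1, 0, 2, 3, 4, 5, 6, 7, 9, 8, 10], ![1, 0, 2, 3, 4, 5, 6, 7, 9, 8, 10], by decide, by decide⟩,
  ⟨![1, 0, 2, 3, 5, 4, 6, 7, 8, 9, 10], ![1, 0, 2, 3, 5, 4, 6, 7, 8, 9, 10], by decide, by decide⟩,
  ⟨![1, 0, 3, 2, 4, 5, 6, 7, 8, 9, 10], ![1, 0, 3, 2, 4, 5, 6, 7, 8, 9, 10], by decide, by decide⟩,
  ⟨![1, 0, 3, 2, 5, 4, 7, 6, 8, 9, 10], ![1, 0, 3, 2, 5, 4, 7, 6, 8, 9, 10], by decide, by decide⟩]

theorem xp_mem : ∀ i, xp i ∈ alternatingGroup (Fin 11) := by
  intro i
  rw [Equiv.Perm.mem_alternatingGroup]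
  revert i
  decide +kernel

def x (i : Fin 7) : A11 := ⟨xp i, xp_mem i⟩

def P : Pres 7 where
  sq _ := []
  cj i j := match i.val, j.val with
    | 0, 1 => [2]
    | 0, 2 => [1]
    | 0, 3 => [3, 4]
    | 0, 5 => [5, 6]
    | 1, 3 => [3, 5]
    | 1, 4 => [4, 5]
    | 2, 4 => [4, 5, 6]
    | _, _ => [j]

theorem P_ok : P.Ok := by decide

theorem satp : Sat P xp := by
  constructor
  · decide +kernel
  · decide +kernel

theorem sat : Sat P x :=
  Sat.of_injective (alternatingGroup (Fin 11)).subtype (subtype_injective _) satp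

theorem nfp : allB 7 (fun e => isZ e || !decide (nf xp e = 1)) = true := by decide +kernel

theorem cenp : allB 7 (fun e => decide (nf xp e = 1) || decide (nf xp e = xp 6) ||
    !decide (∀ i, xp i * nf xp e = nf xp e * xp i)) = true := by decide +kernel

theorem coe_nf (e : Fin 7 → Bool) : ((nf x e : A11) : P11) = nf xp e :=
  map_nf (alternatingGroup (Fin 11)).subtype x e

theorem nf_x (e : Fin 7 → Bool) (h : nf x e = 1) : e = fun _ => false :=
  nf_inj_of xp nfp e (by rw [← coe_nf, h]; rfl)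

theorem cen_x (e : Fin 7 → Bool) (h : ∀ i, x i * nf x e = nf x e * x i) (hne : nf x e ≠ 1) : nf x e = x 6 := by
  apply Subtype.ext
  rw [coe_nf]
  refine cen_of xp (xp 6) cenp e (fun i => ?_) fun h1 => hne (Subtype.ext (by rw [coe_nf]; exact h1))
  have := congrArg Subtype.val (h i)
  rw [← coe_nf]
  exact this

theorem card : Nat.card A11 = 19958400 := by
  rw [nat_card_alternatingGroup, Nat.card_fin]
  decide

theorem not_dvd : ¬ 2 ^ (7 + 1) ∣ Nat.card A11 := by
  rw [card]; decide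

/-- the centralizer of the central involution has no elements of prime order `≥ 5` -/
theorem cent_five {p : ℕ} (hp : p.Prime) (h5 : 5 ≤ p) (g : A11) (hg : g ^ p = 1) (hc : g * x 6 = x 6 * g) : g = 1 := by
  apply Subtype.ext
  refine comm_five (xp 6) ?_ ?_ hp h5 (g : P11) (congrArg Subtype.val hg) (congrArg Subtype.val hc)
  · decide +kernel
  · decide +kernel

/-- the partition `0123 | 4567 | 8 9 10` -/
def blk : Fin 11 → Fin 3 := ![0, 0, 0, 0, 1, 1, 1, 1, 2, 2, 2]

/-- the stabilizer of the partition -/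
def U2 : Subgroup A11 where
  carrier := {g | ∀ a b, blk ((g : P11) a) = blk ((g : P11) b) ↔ blk a = blk b}
  one_mem' := fun a b => Iff.rfl
  mul_mem' := fun {g h} hg hh a b => (hg ((h : P11) a) ((h : P11) b)).trans (hh a b)
  inv_mem' := fun {g} hg a b => by
    have h1 := hg ((g : P11)⁻¹ a) ((g : P11)⁻¹ b)
    rw [show (g : P11) ((g : P11)⁻¹ a) = a from (g : P11).apply_symm_apply a,
      show (g : P11) ((g : P11)⁻¹ b) = b from (g : P11).apply_symm_apply b] at h1
    exact h1.symm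

theorem part_U2 {p : ℕ} (hp : p.Prime) (h5 : 5 ≤ p) (g : A11) (hg : g ^ p = 1) (hc : g ∈ U2) : g = 1 := by
  apply Subtype.ext
  refine part_five blk ?_ ?_ hp h5 (g : P11) (congrArg Subtype.val hg) hc
  · decide +kernel
  · decide +kernel

/-- the stabilizer of the last point -/
def U3 : Subgroup A11 where
  carrier := {g | (g : P11) 10 = 10}
  one_mem' := rfl
  mul_mem' := fun {g h} hg hh => by
    show (g : P11) ((h : P11) 10) = 10
    rw [show (h : P11) 10 = 10 from hh]; exact hg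
  inv_mem' := fun {g} hg => by
    show (g : P11)⁻¹ 10 = 10
    rw [Equiv.Perm.inv_eq_iff_eq]; exact hg.symm

/-- `(0 2 4)(1 3 5)` -/
def u1 : P11 := ⟨![2, 3, 4, 5, 0, 1, 6, 7, 8, 9, 10], ![4, 5, 0, 1, 2, 3, 6, 7, 8, 9, 10], by decide, by decide⟩
/-- `(0 1 2)` -/
def u2 : P11 := ⟨![1, 2, 0, 3, 4, 5, 6, 7, 8, 9, 10], ![2, 0, 1, 3, 4, 5, 6, 7, 8, 9, 10], by decide, by decide⟩
/-- `(8 9 10)` -/
def u3 : P11 := ⟨![0, 1, 2, 3, 4, 5, 6, 7, 9, 10, 8], ![0, 1, 2, 3, 4, 5, 6, 7, 10, 8, 9], by decide, by decide⟩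
/-- a 9-cycle -/
def nine : P11 := ⟨![1, 2, 3, 4, 5, 6, 7, 8, 0, 9, 10], ![8, 0, 1, 2, 3, 4, 5, 6, 7, 9, 10], by decide, by decide⟩

theorem u1_mem : u1 ∈ alternatingGroup (Fin 11) := by rw [Equiv.Perm.mem_alternatingGroup]; decide +kernel
theorem u2_mem : u2 ∈ alternatingGroup (Fin 11) := by rw [Equiv.Perm.mem_alternatingGroup]; decide +kernel
theorem u3_mem : u3 ∈ alternatingGroup (Fin 11) := by rw [Equiv.Perm.mem_alternatingGroup]; decide +kernel
theorem nine_mem : nine ∈ alternatingGroup (Fin 11) := by rw [Equiv.Perm.mem_alternatingGroup]; decide +kernel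

/-- `A₁₁` is a `π`-group -/
theorem good {π : Set ℕ} (h2 : 2 ∈ π) (h3 : 3 ∈ π) : Good π A11 := by
  intro hd
  have hC : IsPiSubgroup π (centralizer ({x 6} : Set A11)) :=
    isPi_of_five h2 h3 fun p hp h5 g hg hgp => cent_five hp h5 g hgp (mem_centralizer_singleton_iff.1 hg)
  have hC2 : IsPiSubgroup π U2 := isPi_of_five h2 h3 fun p hp h5 g hg hgp => part_U2 hp h5 g hgp hg
  have hx1 : x 6 ≠ 1 := fun h => absurd (congrArg Subtype.val h) (by decide : xp 6 ≠ 1)
  have hcz : ∀ i, x i * x 6 = x 6 * x i := fun i => Subtype.ext (by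
    show xp i * xp 6 = xp 6 * xp i
    revert i
    decide +kernel)
  obtain ⟨H, hH, hU⟩ := exists_H P_ok sat nf_x not_dvd (fun w => w ≠ 1)
    (fun g w hw h => hw (by
      calc w = g⁻¹ * (g * w * g⁻¹) * g := by group
        _ = 1 := by rw [h]; group)) hx1 (subset_closure ⟨6, rfl⟩) hcz cen_x hC hd
  have hHC := hU _ hC fun i => mem_centralizer_singleton_iff.2 (hcz i)
  have hH2 := hU _ hC2 (by
    have : ∀ i : Fin 7, ∀ a b, blk (xp i a) = blk (xp i b) ↔ blk a = blk b := by decide +kernel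
    exact this)
  have m1 : (⟨u1, u1_mem⟩ : A11) ∈ H := hHC (mem_centralizer_singleton_iff.2 (Subtype.ext (by decide : u1 * xp 6 = xp 6 * u1)))
  have m2 : (⟨u2, u2_mem⟩ : A11) ∈ H := hH2 (by
    have : ∀ a b, blk (u2 a) = blk (u2 b) ↔ blk a = blk b := by decide +kernel
    exact this)
  have m3 : (⟨u3, u3_mem⟩ : A11) ∈ H := hHC (mem_centralizer_singleton_iff.2 (Subtype.ext (by decide : u3 * xp 6 = xp 6 * u3)))
  have m4 : x 2 ∈ H := hHC (mem_centralizer_singleton_iff.2 (hcz 2))
  have p5 : 5 ∈ π := by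
    refine mem_pi_of hH.pi (by norm_num) (mul_mem m1 m2) (Subtype.ext ?_) fun h => ?_
    · exact (by decide +kernel : (u1 * u2) ^ 5 = 1)
    · exact absurd (congrArg Subtype.val h) (by decide : u1 * u2 ≠ 1)
  have p7 : 7 ∈ π := by
    refine mem_pi_of hH.pi (by norm_num) (mul_mem (mul_mem m1 m2) m4) (Subtype.ext ?_) fun h => ?_
    · exact (by decide +kernel : (u1 * u2 * xp 2) ^ 7 = 1)
    · exact absurd (congrArg Subtype.val h) (by decide : u1 * u2 * xp 2 ≠ 1)
  have hC3 : IsPiSubgroup π U3 := by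
    intro p hp hpd
    have hpf : Fact p.Prime := ⟨hp⟩
    by_contra hpi
    have hp2 : p ≠ 2 := by rintro rfl; exact hpi h2
    have hp3 : p ≠ 3 := by rintro rfl; exact hpi h3
    have hp5 : p ≠ 5 := by rintro rfl; exact hpi p5
    have hp7 : p ≠ 7 := by rintro rfl; exact hpi p7
    have hp10 : 10 < p := by
      by_contra hle
      push Not at hle
      have hp1 := hp.two_le
      have h4 : p ≠ 4 := by rintro rfl; exact absurd hp (by decide)
      have h6 : p ≠ 6 := by rintro rfl; exact absurd hp (by decide)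
      have h8 : p ≠ 8 := by rintro rfl; exact absurd hp (by decide)
      have h9 : p ≠ 9 := by rintro rfl; exact absurd hp (by decide)
      have h10 : p ≠ 10 := by rintro rfl; exact absurd hp (by decide)
      omega
    obtain ⟨g, hg⟩ := exists_prime_orderOf_dvd_card' p hpd
    have h1 : (((g : A11) : P11)) ^ p = 1 := by
      have : g ^ p = 1 := by rw [← hg]; exact pow_orderOf_eq_one g
      exact congrArg (fun t : U3 => ((t : A11) : P11)) this
    have hg10 : ((g : A11) : P11) 10 = 10 := g.2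
    have h2 := fix_of_small ((g : A11) : P11) hp h1 (Finset.univ.erase 10) (by
      rw [Finset.card_erase_of_mem (Finset.mem_univ _), Finset.card_fin]; omega) (fun y hy => by
        rw [Finset.mem_erase] at hy ⊢
        refine ⟨fun h => hy.1 ?_, Finset.mem_univ _⟩
        rw [← hg10] at h
        exact ((g : A11) : P11).injective h)
    have h3 : g = 1 := by
      apply Subtype.ext
      apply Subtype.ext
      ext y : 1
      by_cases hy : y = 10
      · rw [hy]; exact hg10
      · exact h2 y (Finset.mem_erase.2 ⟨hy, Finset.mem_univ _⟩)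
    rw [h3, orderOf_one] at hg
    exact hp.one_lt.ne hg
  have hH3 := hU _ hC3 (by
    have : ∀ i : Fin 7, xp i 10 = 10 := by decide +kernel
    exact this)
  have m5 : (⟨nine, nine_mem⟩ : A11) ∈ H := hH3 (by
    show nine 10 = 10
    decide)
  have p11 : 11 ∈ π := by
    refine mem_pi_of hH.pi (by norm_num) (mul_mem m3 m5) (Subtype.ext ?_) fun h => ?_
    · exact (by decide +kernel : (u3 * nine) ^ 11 = 1)
    · exact absurd (congrArg Subtype.val h) (by decide : u3 * nine ≠ 1)
  intro p hp hpd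
  rw [card, show (19958400 : ℕ) = 2 ^ 7 * 3 ^ 4 * 5 ^ 2 * 7 * 11 by norm_num] at hpd
  rcases (Nat.Prime.dvd_mul hp).1 hpd with h | h
  · rcases (Nat.Prime.dvd_mul hp).1 h with h | h
    · rcases (Nat.Prime.dvd_mul hp).1 h with h | h
      · rcases (Nat.Prime.dvd_mul hp).1 h with h | h
        · rw [(Nat.prime_dvd_prime_iff_eq hp Nat.prime_two).1 (hp.dvd_of_dvd_pow h)]; exact h2
        · rw [(Nat.prime_dvd_prime_iff_eq hp Nat.prime_three).1 (hp.dvd_of_dvd_pow h)]; exact h3
      · rw [(Nat.prime_dvd_prime_iff_eq hp (by norm_num)).1 (hp.dvd_of_dvd_pow h)]; exact p5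
    · rw [(Nat.prime_dvd_prime_iff_eq hp (by norm_num)).1 h]; exact p7
  · rw [(Nat.prime_dvd_prime_iff_eq hp (by norm_num)).1 h]; exact p11

end Eleven

end Cfsg.Agent.H861.PiS
end

-- part: H861/PiS/LyRow
section
/-!
# S3876: the Lyons group, `2, 3 ∈ π` (helper861)

`C(t) = 2·A₁₁` and the normaliser of a four-group generate a Hall subgroup `H` controlling the fusion of involutions;
a Sylow 2-subgroup acts semiregularly on the cosets of `H` besides `H`, so `|G : H| ≡ 1 (mod 256)`.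
-/

set_option autoImplicit false

namespace Cfsg.Agent.H861.PiS.LyRow

open Cfsg Subgroup
open Cfsg.Agent.H841.PiBS Cfsg.Agent.H543.PiBS
open Cfsg.Agent.TypeM.Two Cfsg.Agent.SporRec.TwoAn
open Cfsg.Agent.GH.Pc

variable {G : Type*} [Group G] [Finite G] (L : MT 11 G)

/-- the projection `2·A₁₁ → A₁₁` -/
def f : centralizer ({L.t} : Set G) →* alternatingGroup (Fin 11) :=
  L.K.π.codRestrict (alternatingGroup (Fin 11)) L.K.mem_alternating

omit [Finite G] in
theorem f_surj : Function.Surjective (f L) := by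
  intro σ
  obtain ⟨g, hg⟩ := L.K.exists_lift σ.2
  exact ⟨g, Subtype.ext hg⟩

omit [Finite G] in
theorem f_eq_one {x : centralizer ({L.t} : Set G)} (h : f L x = 1) : x = 1 ∨ x = L.K.z :=
  (L.K.ker x).1 (congrArg Subtype.val h)

omit [Finite G] in
theorem ker_card : Nat.card (f L).ker = 2 := by
  have h1 : ((f L).ker : Set (centralizer ({L.t} : Set G))) = {1, L.K.z} := by
    ext x
    constructor
    · intro hx
      exact f_eq_one L hx
    · rintro (rfl | rfl)
      · exact one_mem _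
      · exact Subtype.ext L.K.π_z
  have h2 : Nat.card (f L).ker = ((f L).ker : Set (centralizer ({L.t} : Set G))).ncard := rfl
  rw [h2, h1, Set.ncard_pair L.K.z_ne.symm]

omit [Finite G] in
theorem card_C : Nat.card (centralizer ({L.t} : Set G)) = 39916800 := by
  have h1 := (f L).ker.card_mul_index
  rw [Subgroup.index_ker, MonoidHom.range_eq_top.2 (f_surj L), card_top, ker_card, Eleven.card] at h1
  rw [← h1]

omit [Finite G] in
/-- the Sylow 2-subgroup -/
theorem exists_T (hc : Nat.card G = 51765179004000000) : ∃ T : Sylow 2 G,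
    ∀ g : G, g ∈ (T : Subgroup G) ↔ ∃ h : g ∈ centralizer ({L.t} : Set G),
      f L ⟨g, h⟩ ∈ closure (Set.range Eleven.x) := by
  have hfact : Fact (Nat.Prime 2) := ⟨Nat.prime_two⟩
  obtain ⟨S, hS⟩ := Cfsg.Agent.QTUnique.PcCard.exists_sylow_eq Eleven.P_ok Eleven.sat Eleven.nf_x Eleven.not_dvd
  let K : Subgroup G := ((S : Subgroup Eleven.A11).comap (f L)).map (centralizer ({L.t} : Set G)).subtype
  have hK : ∀ g : G, g ∈ K ↔ ∃ h : g ∈ centralizer ({L.t} : Set G), f L ⟨g, h⟩ ∈ closure (Set.range Eleven.x) := by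
    intro g
    constructor
    · rintro ⟨y, hy, rfl⟩
      refine ⟨y.2, ?_⟩
      rw [← hS]
      exact hy
    · rintro ⟨h, h2⟩
      rw [← hS] at h2
      exact ⟨⟨g, h⟩, h2, rfl⟩
  have hp : IsPGroup 2 K := by
    rintro ⟨x, y, hy, rfl⟩
    obtain ⟨k, hk⟩ := S.isPGroup' ⟨f L y, hy⟩
    have h1 : f L (y ^ 2 ^ k) = 1 := by
      rw [map_pow]
      exact congrArg Subtype.val hk
    refine ⟨k + 1, Subtype.ext ?_⟩
    show ((centralizer ({L.t} : Set G)).subtype y) ^ 2 ^ (k + 1) = 1
    rw [← map_pow]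
    have h2 : y ^ 2 ^ (k + 1) = 1 := by
      rw [pow_succ, pow_mul, pow_two]
      rcases f_eq_one L h1 with h3 | h3
      · rw [h3, one_mul]
      · rw [h3, L.K.z_mul_z]
    rw [h2, map_one]
  have hi : ¬ 2 ∣ K.index := by
    have h1 : K.index = (S : Subgroup Eleven.A11).index * (centralizer ({L.t} : Set G)).index := by
      show (((S : Subgroup Eleven.A11).comap (f L)).map (centralizer ({L.t} : Set G)).subtype).index = _
      rw [index_map_subtype, index_comap_of_surjective _ (f_surj L)]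
    have h2 : (centralizer ({L.t} : Set G)).index = 1296826875 := by
      have h3 := (centralizer ({L.t} : Set G)).card_mul_index
      rw [card_C, hc] at h3
      omega
    rw [h1, h2, Nat.prime_two.dvd_mul, not_or]
    exact ⟨S.not_dvd_index, by norm_num⟩
  exact ⟨hp.toSylow hi, hK⟩

/-- control of fusion in a subgroup containing `C(t)`, a Sylow 2-subgroup of `C(t)` and an element fusing `t` to `w` -/
theorem control {T : Sylow 2 G} (hT : (T : Subgroup G) ≤ centralizer ({L.t} : Set G)) {H : Subgroup G}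
    (hC : centralizer ({L.t} : Set G) ≤ H) {w r : G} (hw : w * w = 1) (hw1 : w ≠ 1) (hwt : w ≠ L.t)
    (hwc : w * L.t = L.t * w) (hr : r ∈ H) (hrt : r * L.t * r⁻¹ = w) {s : G} (hs : s * s = 1) (hs1 : s ≠ 1)
    (hsH : s ∈ H) : ∃ h ∈ H, h * L.t * h⁻¹ = s := by
  have hfact : Fact (Nat.Prime 2) := ⟨Nat.prime_two⟩
  -- `s` moves into `T`
  have hTH : (T : Subgroup G) ≤ H := hT.trans hC
  obtain ⟨h, hh, hhT⟩ : ∃ h ∈ H, h * s * h⁻¹ ∈ (T : Subgroup G) := by
    let P : Sylow 2 H := T.subtype hTH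
    have hz : IsPGroup 2 (zpowers (⟨s, hsH⟩ : H)) := by
      refine IsPGroup.of_card (n := 1) ?_
      rw [Nat.card_zpowers, pow_one]
      refine orderOf_eq_prime (Subtype.ext ?_) fun h1 => hs1 (congrArg Subtype.val h1)
      show s ^ 2 = 1
      rw [pow_two, hs]
    obtain ⟨Q, hQ⟩ := hz.exists_le_sylow
    obtain ⟨h, hh⟩ := MulAction.exists_smul_eq H Q P
    refine ⟨h, h.2, ?_⟩
    have h1 : (⟨s, hsH⟩ : H) ∈ (Q : Subgroup H) := hQ (mem_zpowers _)
    have h2 : h * ⟨s, hsH⟩ * h⁻¹ ∈ ((h • Q : Sylow 2 H) : Subgroup H) := ⟨_, h1, rfl⟩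
    rw [hh] at h2
    exact h2
  obtain ⟨s', hs'⟩ : ∃ s', s' = h * s * h⁻¹ := ⟨_, rfl⟩
  rw [← hs'] at hhT
  have a1 : s' * s' = 1 := by
    calc s' * s' = h * (s * s) * h⁻¹ := by rw [hs']; group
      _ = 1 := by rw [hs]; group
  have a2 : s' ≠ 1 := by
    intro h1
    apply hs1
    calc s = h⁻¹ * s' * h := by rw [hs']; group
      _ = 1 := by rw [h1]; group
  have a3 := mem_centralizer_singleton_iff.1 (hT hhT)
  by_cases a4 : s' = L.t
  · refine ⟨h⁻¹, inv_mem hh, ?_⟩
    rw [← a4, hs']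
    group
  · obtain ⟨c, hc1, hc2⟩ := L.conj_in_centralizer (by norm_num) hwc a3 hw hw1 hwt a1 a2 a4
    refine ⟨h⁻¹ * c * r, mul_mem (mul_mem (inv_mem hh) (hC (mem_centralizer_singleton_iff.2 hc1))) hr, ?_⟩
    calc h⁻¹ * c * r * L.t * (h⁻¹ * c * r)⁻¹ = h⁻¹ * (c * (r * L.t * r⁻¹) * c⁻¹) * h := by group
      _ = s := by rw [hrt, hc2, hs']; group

/-- the index is `≡ 1` modulo the order of a Sylow 2-subgroup -/
theorem index_mod {T : Sylow 2 G} (hT : (T : Subgroup G) ≤ centralizer ({L.t} : Set G)) {H : Subgroup G}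
    (hC : centralizer ({L.t} : Set G) ≤ H) {w r : G} (hw : w * w = 1) (hw1 : w ≠ 1) (hwt : w ≠ L.t)
    (hwc : w * L.t = L.t * w) (hr : r ∈ H) (hrt : r * L.t * r⁻¹ = w) :
    Nat.card (T : Subgroup G) ∣ H.index - 1 := by
  classical
  have hfact : Fact (Nat.Prime 2) := ⟨Nat.prime_two⟩
  have hTH : (T : Subgroup G) ≤ H := hT.trans hC
  let X : SubMulAction (T : Subgroup G) (G ⧸ H) :=
    { carrier := {x | x ≠ ((1 : G) : G ⧸ H)}
      smul_mem' := by
        intro t x hx h
        apply hx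
        have h1 : x = t⁻¹ • ((1 : G) : G ⧸ H) := by rw [← h, inv_smul_smul]
        rw [h1]
        show (((t⁻¹ : (T : Subgroup G)) : G) * 1 : G) = ((1 : G) : G ⧸ H)
        rw [mul_one]
        refine QuotientGroup.eq.2 ?_
        rw [mul_one, inv_mem_iff]
        exact hTH (t⁻¹).2 }
  have hX : Nat.card X = H.index - 1 := by
    have h1 : Nat.card X = ({x | x ≠ ((1 : G) : G ⧸ H)} : Set (G ⧸ H)).ncard := rfl
    have h2 : ({x | x ≠ ((1 : G) : G ⧸ H)} : Set (G ⧸ H)) = Set.univ \ {((1 : G) : G ⧸ H)} := by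
      ext x
      simp
    rw [h1, h2, Set.ncard_sdiff (Set.subset_univ _) (Set.toFinite _), Set.ncard_univ, Set.ncard_singleton, index_eq_card]
  rw [← hX]
  refine dvd_of_orbits (T := (T : Subgroup G)) fun x => ?_
  have h1 : MulAction.stabilizer (T : Subgroup G) x = ⊥ := by
    rcases (T.isPGroup'.to_subgroup (MulAction.stabilizer (T : Subgroup G) x)).card_eq_or_dvd with h2 | h2
    · exact eq_bot_of_card_eq _ h2
    exfalso
    obtain ⟨u, hu⟩ := exists_prime_orderOf_dvd_card' 2 h2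
    obtain ⟨s, hs⟩ : ∃ s : G, s = ((u : (T : Subgroup G)) : G) := ⟨_, rfl⟩
    have hsT : s ∈ (T : Subgroup G) := by rw [hs]; exact (u : (T : Subgroup G)).2
    have hs2 : s * s = 1 := by
      have h3 : u ^ 2 = 1 := by
        have h4 := pow_orderOf_eq_one u
        rwa [hu] at h4
      rw [pow_two] at h3
      rw [hs]
      exact congrArg (fun y : MulAction.stabilizer (T : Subgroup G) x => ((y : (T : Subgroup G)) : G)) h3
    have hs1 : s ≠ 1 := by
      intro h3
      rw [hs] at h3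
      have h4 : u = 1 := Subtype.ext (Subtype.ext h3)
      rw [h4, orderOf_one] at hu
      exact absurd hu (by norm_num)
    have hux : (u : (T : Subgroup G)) • x = x := u.2
    obtain ⟨g, hg⟩ := QuotientGroup.mk_surjective (x : G ⧸ H)
    have hgH : g ∉ H := by
      intro h3
      apply x.2
      rw [← hg]
      exact (QuotientGroup.eq.2 (by rwa [inv_one, one_mul])).symm
    have h5 : g⁻¹ * s * g ∈ H := by
      have h6 : ((s * g : G) : G ⧸ H) = (g : G ⧸ H) := by
        have h7 := congrArg (fun y : X => (y : G ⧸ H)) hux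
        have h8 : ((u : (T : Subgroup G)) • (x : G ⧸ H)) = (x : G ⧸ H) := h7
        rw [← hg] at h8
        rw [hs]
        exact h8
      have h9 := QuotientGroup.eq.1 h6.symm
      rwa [← mul_assoc] at h9
    obtain ⟨h, hh, hht⟩ := control L hT hC hw hw1 hwt hwc hr hrt (s := g⁻¹ * s * g) (by
      calc g⁻¹ * s * g * (g⁻¹ * s * g) = g⁻¹ * (s * s) * g := by group
        _ = 1 := by rw [hs2]; group) (fun h3 => hs1 (by
      calc s = g * (g⁻¹ * s * g) * g⁻¹ := by group
        _ = 1 := by rw [h3]; group)) h5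
    obtain ⟨k, hk, hkt⟩ := control L hT hC hw hw1 hwt hwc hr hrt hs2 hs1 (hTH hsT)
    apply hgH
    have h6 : k⁻¹ * g * h ∈ H := by
      refine hC (mem_centralizer_singleton_iff.2 ?_)
      have e1 : g * (h * L.t * h⁻¹) * g⁻¹ = k * L.t * k⁻¹ := by rw [hht, hkt]; group
      calc k⁻¹ * g * h * L.t = k⁻¹ * (g * (h * L.t * h⁻¹) * g⁻¹) * (g * h) := by group
        _ = L.t * (k⁻¹ * g * h) := by rw [e1]; group
    have e2 : g = k * (k⁻¹ * g * h) * h⁻¹ := by group
    rw [e2]
    exact mul_mem (mul_mem hk h6) (inv_mem hh)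
  rw [Nat.card_congr (MulAction.orbitEquivQuotientStabilizer (T : Subgroup G) x), h1]
  rw [← index_eq_card, index_bot]

theorem swap_data : ((Eleven.xp 3).support.card = 4 * 1 ∧ Eleven.xp 3 * Eleven.xp 3 = 1) ∧
    ((Eleven.xp 6 * Eleven.xp 3).support.card = 4 * 2 ∧
      Eleven.xp 6 * Eleven.xp 3 * (Eleven.xp 6 * Eleven.xp 3) = 1) ∧
    ((Eleven.xp 6).support.card = 4 * 2 ∧ Eleven.xp 6 * Eleven.xp 6 = 1) := by decide +kernel

include L in
/-- the Lyons group -/
theorem row {π : Set ℕ} (h2 : 2 ∈ π) (h3 : 3 ∈ π) (hc : Nat.card G = 51765179004000000) (hD : DC π G) :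
    PiGrp π G := by
  classical
  have hfact : Fact (Nat.Prime 2) := ⟨Nat.prime_two⟩
  obtain ⟨T, hT⟩ := exists_T L hc
  obtain ⟨⟨s3, q3⟩, ⟨s63, q63⟩, s6, q6⟩ := swap_data
  -- `T ≤ C(t)`
  have hTC : (T : Subgroup G) ≤ centralizer ({L.t} : Set G) := fun g hg => ((hT g).1 hg).1
  have htC : L.t ∈ centralizer ({L.t} : Set G) := mem_centralizer_singleton_iff.2 rfl
  have hzt : L.K.z = ⟨L.t, htC⟩ := Subtype.ext L.hz
  have htT : L.t ∈ (T : Subgroup G) := by
    rw [hT]
    refine ⟨htC, ?_⟩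
    have h4 : f L ⟨L.t, htC⟩ = 1 := by
      rw [← hzt]
      exact Subtype.ext L.K.π_z
    rw [h4]
    exact one_mem _
  have hxmem : ∀ i, Eleven.x i ∈ closure (Set.range Eleven.x) := fun i => subset_closure ⟨i, rfl⟩
  -- the lifts
  obtain ⟨w, hwf⟩ := f_surj L (Eleven.x 6)
  have hwπ : L.K.π w = Eleven.xp 6 := congrArg Subtype.val hwf
  have hww : w * w = 1 := by
    have h4 := L.K.sq_eq (g := w) (k := 2) (by rw [hwπ]; exact q6) (by rw [hwπ]; exact s6)
    rw [h4, L.K.z_pow_two]
  have hww' : (w : G) * w = 1 := congrArg Subtype.val hww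
  have hx61 : Eleven.x 6 ≠ 1 := fun h => absurd (congrArg Subtype.val h) (by decide : Eleven.xp 6 ≠ 1)
  have hw1 : (w : G) ≠ 1 := by
    intro h4
    have h5 : w = 1 := Subtype.ext h4
    rw [h5, map_one] at hwf
    exact hx61 hwf.symm
  have hwt : (w : G) ≠ L.t := by
    intro h4
    have h5 : w = L.K.z := Subtype.ext (h4.trans L.hz.symm)
    rw [h5] at hwπ
    rw [L.K.π_z] at hwπ
    exact absurd hwπ.symm (by decide : Eleven.xp 6 ≠ 1)
  have hwc : (w : G) * L.t = L.t * w := mem_centralizer_singleton_iff.1 w.2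
  -- `N(T) ≤ C(t)`
  have hN : normalizer ((T : Subgroup G) : Set G) ≤ centralizer ({L.t} : Set G) := by
    intro g hg
    have hgi := inv_mem hg
    obtain ⟨y, hy⟩ : ∃ y, y = g * L.t * g⁻¹ := ⟨_, rfl⟩
    have hyT : y ∈ (T : Subgroup G) := by rw [hy]; exact (mem_normalizer_iff.1 hg L.t).1 htT
    have hyc : ∀ u ∈ (T : Subgroup G), u * y = y * u := by
      intro u hu
      have h5 : g⁻¹ * u * g ∈ (T : Subgroup G) := by
        have := (mem_normalizer_iff.1 hgi u).1 hu
        rwa [inv_inv] at this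
      have h6 := mem_centralizer_singleton_iff.1 (hTC h5)
      calc u * y = g * ((g⁻¹ * u * g) * L.t) * g⁻¹ := by rw [hy]; group
        _ = g * (L.t * (g⁻¹ * u * g)) * g⁻¹ := by rw [h6]
        _ = y * u := by rw [hy]; group
    have hyy : y * y = 1 := by
      calc y * y = g * (L.t * L.t) * g⁻¹ := by rw [hy]; group
        _ = 1 := by rw [L.t_mul_t]; group
    have hy1 : y ≠ 1 := by
      intro h4
      apply L.t_ne
      calc L.t = g⁻¹ * y * g := by rw [hy]; group
        _ = 1 := by rw [h4]; group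
    obtain ⟨hyC, hyf⟩ := (hT y).1 hyT
    have hlift : ∀ i, ∃ u ∈ (T : Subgroup G), ∃ hu : u ∈ centralizer ({L.t} : Set G), f L ⟨u, hu⟩ = Eleven.x i := by
      intro i
      obtain ⟨u, hu⟩ := f_surj L (Eleven.x i)
      refine ⟨u, (hT _).2 ⟨u.2, ?_⟩, u.2, hu⟩
      rw [show (⟨(u : G), u.2⟩ : centralizer ({L.t} : Set G)) = u from rfl, hu]
      exact hxmem i
    have h6 : ∀ i, Eleven.x i * f L ⟨y, hyC⟩ = f L ⟨y, hyC⟩ * Eleven.x i := by
      intro i
      obtain ⟨u, huT, huC, hu⟩ := hlift i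
      rw [← hu, ← map_mul, ← map_mul]
      congr 1
      exact Subtype.ext (hyc u huT)
    have h7 : f L ⟨y, hyC⟩ = 1 := by
      by_contra hne
      obtain ⟨e, he⟩ := exists_nf Eleven.P_ok Eleven.sat hyf
      have h8 : f L ⟨y, hyC⟩ = Eleven.x 6 := by
        rw [he]
        exact Eleven.cen_x e (by rw [← he]; exact h6) (by rw [← he]; exact hne)
      obtain ⟨u, huT, huC, hu⟩ := hlift 3
      have p1 : L.K.π ⟨y, hyC⟩ = Eleven.xp 6 := congrArg Subtype.val h8
      have p2 : L.K.π ⟨u, huC⟩ = Eleven.xp 3 := congrArg Subtype.val hu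
      have r1 : (⟨u, huC⟩ : centralizer ({L.t} : Set G)) * ⟨u, huC⟩ = L.K.z := by
        rw [L.K.sq_eq (k := 1) (by rw [p2]; exact q3) (by rw [p2]; exact s3), pow_one]
      have r2 : ((⟨y, hyC⟩ : centralizer ({L.t} : Set G)) * ⟨u, huC⟩) * (⟨y, hyC⟩ * ⟨u, huC⟩) = 1 := by
        rw [L.K.sq_eq (k := 2) (by rw [map_mul, p1, p2]; exact q63) (by rw [map_mul, p1, p2]; exact s63),
          L.K.z_pow_two]
      have r3 : (⟨u, huC⟩ : centralizer ({L.t} : Set G)) * ⟨y, hyC⟩ = ⟨y, hyC⟩ * ⟨u, huC⟩ := Subtype.ext (hyc u huT)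
      apply L.K.z_ne
      calc L.K.z = (⟨y, hyC⟩ : centralizer ({L.t} : Set G)) * ⟨y, hyC⟩ * (⟨u, huC⟩ * ⟨u, huC⟩) := by
            rw [r1, show (⟨y, hyC⟩ : centralizer ({L.t} : Set G)) * ⟨y, hyC⟩ = 1 from Subtype.ext hyy, one_mul]
        _ = ⟨y, hyC⟩ * (⟨y, hyC⟩ * ⟨u, huC⟩) * ⟨u, huC⟩ := by simp only [mul_assoc]
        _ = ⟨y, hyC⟩ * (⟨u, huC⟩ * ⟨y, hyC⟩) * ⟨u, huC⟩ := by rw [r3]
        _ = 1 := by rw [← r2]; simp only [mul_assoc]
    rcases f_eq_one L h7 with h8 | h8
    · exact absurd (congrArg Subtype.val h8) hy1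
    · have h9 : y = L.t := (congrArg Subtype.val h8).trans L.hz
      rw [mem_centralizer_singleton_iff]
      calc g * L.t = g * L.t * g⁻¹ * g := by group
        _ = L.t * g := by rw [← hy, h9]
  -- `C(t)` is a `π`-group
  have hd : DT π G := DT.of_dPi hD.isDPi h2
  have hd1 : DT π (centralizer ({L.t} : Set G)) := hd.descend T hTC hN
  have hd2 : DT π Eleven.A11 := by
    refine hd1.of_surjective (f L) (f_surj L) ?_
    refine isPi_of_isPGroup h2 ?_
    exact IsPGroup.of_card (n := 1) (by rw [ker_card, pow_one])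
  have hP := Eleven.good h2 h3 hd2
  have hC : IsPiSubgroup π (centralizer ({L.t} : Set G)) := by
    intro p hp hpd
    rw [card_C, show (39916800 : ℕ) = 2 * 19958400 by norm_num] at hpd
    rcases (Nat.Prime.dvd_mul hp).1 hpd with h | h
    · rw [(Nat.prime_dvd_prime_iff_eq hp Nat.prime_two).1 h]; exact h2
    · exact hP p hp (by rw [Eleven.card]; exact h)
  obtain ⟨H, hH, hNH, hU⟩ := hD.overgroups T (isPi_of_le hC hN)
  have hCH := hU _ hC hTC
  -- the four-group
  have hTV : (T : Subgroup G) ≤ normalizer (VV L.t (w : G)) := by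
    intro u hu
    obtain ⟨huC, huf⟩ := (hT u).1 hu
    have hut := mem_centralizer_singleton_iff.1 huC
    have hcase : u * w = w * u ∨ u * w = w * u * L.t := by
      have h4 : (⟨u, huC⟩ : centralizer ({L.t} : Set G)) * w = w * ⟨u, huC⟩ ∨
          (⟨u, huC⟩ : centralizer ({L.t} : Set G)) * w = w * ⟨u, huC⟩ * L.K.z := by
        refine L.K.comm_or ?_
        have h5 : f L ⟨u, huC⟩ * Eleven.x 6 = Eleven.x 6 * f L ⟨u, huC⟩ := by
          have h6 : closure (Set.range Eleven.x) ≤ centralizer ({Eleven.x 6} : Set Eleven.A11) := by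
            rw [closure_le]
            rintro _ ⟨i, rfl⟩
            refine mem_centralizer_singleton_iff.2 (Subtype.ext ?_)
            show Eleven.xp i * Eleven.xp 6 = Eleven.xp 6 * Eleven.xp i
            revert i
            decide +kernel
          exact mem_centralizer_singleton_iff.1 (h6 huf)
        have h7 := congrArg Subtype.val h5
        rw [hwπ]
        exact h7
      rcases h4 with h4 | h4
      · exact Or.inl (congrArg Subtype.val h4)
      · right
        have h5 : u * w = w * u * (L.K.z : G) := congrArg Subtype.val h4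
        rwa [L.hz] at h5
    have htt := L.t_mul_t
    apply mem_norm_of
    · rintro x (rfl | rfl | rfl)
      · left
        rw [hut]
        group
      · rcases hcase with h | h
        · right; left
          rw [h]; group
        · right; right
          rw [h]
          calc (w : G) * u * L.t * u⁻¹ = w * (u * L.t) * u⁻¹ := by group
            _ = w * L.t := by rw [hut]; group
      · rcases hcase with h | h
        · right; right
          calc u * (w * L.t) * u⁻¹ = (u * w) * L.t * u⁻¹ := by group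
            _ = w * (u * L.t) * u⁻¹ := by rw [h]; group
            _ = w * L.t := by rw [hut]; group
        · right; left
          calc u * (w * L.t) * u⁻¹ = (u * w) * L.t * u⁻¹ := by group
            _ = w * u * (L.t * L.t) * u⁻¹ := by rw [h]; group
            _ = w := by rw [htt]; group
    · have hut' : u⁻¹ * L.t = L.t * u⁻¹ := by
        calc u⁻¹ * L.t = u⁻¹ * (L.t * u) * u⁻¹ := by group
          _ = L.t * u⁻¹ := by rw [← hut]; group
      have hcase' : w * u = u * w ∨ w * u = u * w * L.t := by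
        rcases hcase with h | h
        · exact Or.inl h.symm
        · right
          rw [h]
          calc (w : G) * u = w * u * (L.t * L.t) := by rw [htt, mul_one]
            _ = w * u * L.t * L.t := by group
      rintro x (rfl | rfl | rfl)
      · left
        rw [hut']
        group
      · rcases hcase' with h | h
        · right; left
          rw [mul_assoc, h]; group
        · right; right
          rw [mul_assoc, h]
          show u⁻¹ * (u * w * L.t) = w * L.t
          group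
      · rcases hcase' with h | h
        · right; right
          calc u⁻¹ * (w * L.t) * u = u⁻¹ * w * (L.t * u) := by group
            _ = u⁻¹ * (w * u) * L.t := by rw [← hut]; group
            _ = w * L.t := by rw [h]; group
        · right; left
          calc u⁻¹ * (w * L.t) * u = u⁻¹ * w * (L.t * u) := by group
            _ = u⁻¹ * (w * u) * L.t := by rw [← hut]; group
            _ = w * (L.t * L.t) := by rw [h]; group
            _ = w := by rw [htt, mul_one]
  have hVH := hU _ (isPi_normalizer h2 h3 hC) hTV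
  -- the fusion
  obtain ⟨r, hr, hrt⟩ : ∃ r ∈ normalizer (VV L.t (w : G)), r * L.t * r⁻¹ = w := by
    obtain ⟨g, hg⟩ := L.one w hww' hw1
    have htt := L.t_mul_t
    obtain ⟨c, hc1, hc2⟩ := (L.rebase g hg).conj_in_centralizer (by norm_num) (r := g * w * g⁻¹) (s := L.t) (by
      rw [MT.rebase_t, ← hg]
      calc g * (g * L.t * g⁻¹) * g⁻¹ * (g * L.t * g⁻¹) = g * ((g * L.t * g⁻¹) * L.t) * g⁻¹ := by group
        _ = g * (L.t * (g * L.t * g⁻¹)) * g⁻¹ := by rw [hg, hwc]
        _ = g * L.t * g⁻¹ * (g * (g * L.t * g⁻¹) * g⁻¹) := by group) (by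
      rw [MT.rebase_t, hwc]) (by
      calc g * w * g⁻¹ * (g * w * g⁻¹) = g * (w * w) * g⁻¹ := by group
        _ = 1 := by rw [hww']; group) (by
      intro h
      apply hw1
      calc (w : G) = g⁻¹ * (g * w * g⁻¹) * g := by group
        _ = 1 := by rw [h]; group) (by
      intro h
      rw [MT.rebase_t] at h
      apply hwt
      calc (w : G) = g⁻¹ * (g * w * g⁻¹) * g := by group
        _ = g⁻¹ * w * g := by rw [h]
        _ = L.t := by rw [← hg]; group) htt L.t_ne (by
      rw [MT.rebase_t]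
      exact fun h => hwt h.symm)
    rw [MT.rebase_t] at hc1
    have k1 : c * g * L.t * (c * g)⁻¹ = w := by
      calc c * g * L.t * (c * g)⁻¹ = c * (g * L.t * g⁻¹) * c⁻¹ := by group
        _ = w := by rw [hg, hc1]; group
    have k2 : c * g * w * (c * g)⁻¹ = L.t := by
      calc c * g * w * (c * g)⁻¹ = c * (g * w * g⁻¹) * c⁻¹ := by group
        _ = L.t := hc2
    refine ⟨c * g, ?_, k1⟩
    obtain ⟨b, hb⟩ : ∃ b, b = c * g := ⟨_, rfl⟩
    rw [← hb] at k1 k2 ⊢
    have k3 : b⁻¹ * w * b = L.t := by rw [← k1]; group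
    have k4 : b⁻¹ * L.t * b = w := by
      calc b⁻¹ * L.t * b = b⁻¹ * (b * w * b⁻¹) * b := by rw [k2]
        _ = w := by group
    apply mem_norm_of
    · rintro x (rfl | rfl | rfl)
      · exact Or.inr (Or.inl k1)
      · exact Or.inl k2
      · right; right
        calc b * (w * L.t) * b⁻¹ = (b * w * b⁻¹) * (b * L.t * b⁻¹) := by group
          _ = w * L.t := by rw [k1, k2, hwc]
    · rintro x (rfl | rfl | rfl)
      · exact Or.inr (Or.inl k4)
      · exact Or.inl k3
      · right; right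
        calc b⁻¹ * (w * L.t) * b = (b⁻¹ * w * b) * (b⁻¹ * L.t * b) := by group
          _ = w * L.t := by rw [k3, k4, hwc]
  have hmod := index_mod L hTC hCH hww' hw1 hwt hwc (hVH hr) hrt
  have h256 : 256 ∣ H.index - 1 := by
    refine dvd_trans ?_ hmod
    have h4 := T.pow_dvd_card_of_pow_dvd_card (n := 8) (by rw [hc]; norm_num)
    exact h4
  have h5 : 5 ∈ π := hC 5 (by norm_num) (by rw [card_C]; norm_num)
  have hdvd : H.index ∣ 15 ^ 4 * 76849 := by
    have h6 : H.index ∣ (centralizer ({L.t} : Set G)).index := index_dvd_of_le hCH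
    have h7 : (centralizer ({L.t} : Set G)).index = 1296826875 := by
      have h8 := (centralizer ({L.t} : Set G)).card_mul_index
      rw [card_C, hc] at h8
      omega
    rw [h7] at h6
    exact h6.trans (by norm_num)
  have hcop : Nat.Coprime H.index (15 ^ 4) := by
    apply Nat.Coprime.pow_right
    rw [show (15 : ℕ) = 3 * 5 by norm_num]
    refine Nat.Coprime.mul_right ?_ ?_
    · exact (Nat.coprime_comm.1 ((Nat.Prime.coprime_iff_not_dvd Nat.prime_three).2 (hH.2 3 Nat.prime_three h3)))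
    · exact (Nat.coprime_comm.1 ((Nat.Prime.coprime_iff_not_dvd Nat.prime_five).2 (hH.2 5 Nat.prime_five h5)))
  have hd3 := hcop.dvd_of_dvd_mul_left hdvd
  have hidx : H.index = 1 := by
    rw [show (76849 : ℕ) = 31 * 37 * 67 by norm_num] at hd3
    obtain ⟨a, b, ha, hb, hab⟩ := Nat.dvd_mul.1 hd3
    obtain ⟨c, d, hc', hd', hcd⟩ := Nat.dvd_mul.1 ha
    rw [← hab, ← hcd] at h256 ⊢
    rcases (Nat.dvd_prime (by norm_num)).1 hb with rfl | rfl <;>
    rcases (Nat.dvd_prime (by norm_num)).1 hc' with rfl | rfl <;>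
    rcases (Nat.dvd_prime (by norm_num)).1 hd' with rfl | rfl <;>
    first
    | rfl
    | (exfalso; revert h256; norm_num)
  exact pg_of_top hH.1 (index_eq_one.1 hidx)

theorem row_Ly {S : Type*} [Group S] [Finite S] (h : Cfsg.Spor.IsoLy S) {π : Set ℕ} (h2 : 2 ∈ π) (h3 : 3 ∈ π)
    (hD : DC π S) : PiGrp π S := by
  obtain ⟨-, -, hc, ⟨L⟩⟩ := Cfsg.Agent.TypeM.FactsLy.facts h
  exact row L h2 h3 hc hD

end Cfsg.Agent.H861.PiS.LyRow
end
end
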